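/-
Jointly epimorphic families in a topos of sheaves.
-/
import Groth.Prelude.Def_SGA4c
import Groth.Agent.TopLib.SheafGiraud
import Mathlib.CategoryTheory.Sites.Subsheaf

set_option autoImplicit false
set_option linter.style.haveILetI false
set_option linter.deprecated false

universe u

open CategoryTheory Limits Opposite ToposFin

namespace ToposFinLib

variable {C : Type u} [SmallCategory C] {J : GrothendieckTopology C}

/-- Jointly epimorphic family. -/
def EF {ι : Type*} {X : Sh J} {F : ι → Sh J} (π : ∀ i, F i ⟶ X) : Prop :=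
  ∀ (Z : Sh J) (a b : X ⟶ Z), (∀ i, π i ≫ a = π i ≫ b) → a = b

lemma epi_desc_iff {ι : Type*} {X : Sh J} {F : ι → Sh J} [HasCoproduct F] (π : ∀ i, F i ⟶ X) :
    Epi (Sigma.desc π) ↔ EF π := by
  refine ⟨fun h Z a b e => (cancel_epi (Sigma.desc π)).1 (Sigma.hom_ext _ _ fun i => ?_), fun h =>
    ⟨fun {Z} a b e => h Z a b fun i => ?_⟩⟩
  · rw [Sigma.ι_desc_assoc, Sigma.ι_desc_assoc, e i]
  · have := Sigma.ι F i ≫= e
    rwa [Sigma.ι_desc_assoc, Sigma.ι_desc_assoc] at this

/-- Sections locally in the images of the family. -/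
def imgSieve {ι : Type*} {X : Sh J} {F : ι → Sh J} (π : ∀ i, F i ⟶ X) {U : C} (y : X.obj.obj (op U)) :
    Sieve U where
  arrows V f := ∃ i, ∃ x : (F i).obj.obj (op V), (π i).hom.app _ x = X.obj.map f.op y
  downward_closed {V W f} := fun ⟨i, x, hx⟩ g => ⟨i, (F i).obj.map g.op x, by
    rw [op_comp, FunctorToTypes.map_comp_apply, ← hx]
    exact ConcreteCategory.congr_hom ((π i).hom.naturality g.op) x⟩

/-- The union of the images. -/
def imgSub {ι : Type*} {X : Sh J} {F : ι → Sh J} (π : ∀ i, F i ⟶ X) : Subfunctor X.obj where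
  obj U := {y | ∃ i, ∃ x : (F i).obj.obj U, (π i).hom.app U x = y}
  map {U V} f := fun y ⟨i, x, hx⟩ => ⟨i, (F i).obj.map f x, by
    rw [← hx]
    exact ConcreteCategory.congr_hom ((π i).hom.naturality f) x⟩

theorem ef_iff_local {ι : Type*} {X : Sh J} {F : ι → Sh J} (π : ∀ i, F i ⟶ X) :
    EF π ↔ ∀ (U : C) (y : X.obj.obj (op U)), imgSieve π y ∈ J U := by
  constructor
  · intro h U y
    have hX : Presieve.IsSheaf J X.obj := (isSheaf_iff_isSheaf_of_type J _).1 X.property
    let R := (imgSub π).sheafify J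
    let R' : Sh J := ⟨R.toFunctor, (isSheaf_iff_isSheaf_of_type J _).2 (Subfunctor.sheafify_isSheaf _ hX)⟩
    let r : R' ⟶ X := ⟨R.ι⟩
    haveI : Mono r := by
      haveI : Mono ((sheafToPresheaf J (Type u)).map r) := inferInstanceAs (Mono R.ι)
      exact (sheafToPresheaf J (Type u)).mono_of_mono_map ‹_›
    haveI : Epi r := ⟨fun {Z} a b e => h Z a b fun i => by
      let l : F i ⟶ R' := ⟨{
        app := fun U => ↾fun x => ⟨(π i).hom.app U x, Subfunctor.le_sheafify J (imgSub π) U ⟨i, x, rfl⟩⟩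
        naturality := fun U V f => by
          ext x
          refine Subtype.ext ?_
          exact ConcreteCategory.congr_hom ((π i).hom.naturality f) x }⟩
      have hl : l ≫ r = π i := rfl
      rw [← hl, Category.assoc, Category.assoc, e]⟩
    haveI : IsIso r := isIso_of_mono_of_epi r
    haveI : IsIso (r.hom.app (op U)) :=
      inferInstanceAs (IsIso (((sheafToPresheaf J (Type u)).map r).app (op U)))
    obtain ⟨⟨z, hz⟩, rfl⟩ := ((isIso_iff_bijective _).1 this).2 y
    exact J.superset_covering (fun V f hf => hf) hz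
  · intro h Z a b e
    ext U y
    refine (((isSheaf_iff_isSheaf_of_type J _).1 Z.property) _ (h U.unop y)).isSeparatedFor.ext ?_
    rintro V f ⟨i, x, hx⟩
    have h₁ := ConcreteCategory.congr_hom (a.hom.naturality f.op) y
    have h₂ := ConcreteCategory.congr_hom (b.hom.naturality f.op) y
    simp only [ConcreteCategory.comp_apply] at h₁ h₂
    refine h₁.symm.trans (Eq.trans ?_ h₂)
    rw [← hx]
    exact ConcreteCategory.congr_hom (NatTrans.congr_app (congrArg (fun m => m.hom) (e i)) (op V)) x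

/-- Jointly epimorphic families are stable under base change. -/
theorem EF.pullback {ι : Type*} {X Y : Sh J} {F G : ι → Sh J} {π : ∀ i, F i ⟶ X} (h : EF π)
    (g : Y ⟶ X) {σ : ∀ i, G i ⟶ Y} {t : ∀ i, G i ⟶ F i} (hp : ∀ i, IsPullback (t i) (σ i) (π i) g) :
    EF σ := by
  rw [ef_iff_local] at h ⊢
  intro U y
  refine J.superset_covering ?_ (h U (g.hom.app _ y))
  rintro V f ⟨i, x, hx⟩
  have hpb := ((hp i).map (sheafToPresheaf J (Type u))).map ((evaluation Cᵒᵖ (Type u)).obj (op V))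
  obtain ⟨z, -, hz⟩ := Types.exists_of_isPullback hpb x (Y.obj.map f.op y)
    (hx.trans (ConcreteCategory.congr_hom (g.hom.naturality f.op) y).symm)
  exact ⟨i, z, hz⟩

theorem EF.base {ι : Type*} {X Y : Sh J} {F : ι → Sh J} {π : ∀ i, F i ⟶ X} (h : EF π)
    (g : Y ⟶ X) : EF fun i => Limits.pullback.snd (π i) g :=
  h.pullback g fun i => IsPullback.of_hasPullback (π i) g

theorem EF.base' {ι : Type*} {X Y : Sh J} {F : ι → Sh J} {π : ∀ i, F i ⟶ X} (h : EF π)
    (g : Y ⟶ X) : EF fun i => Limits.pullback.fst g (π i) :=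
  h.pullback g fun i => (IsPullback.of_hasPullback g (π i)).flip

theorem EF.bind {ι : Type*} {κ : ι → Type*} {X : Sh J} {F : ι → Sh J} {π : ∀ i, F i ⟶ X} (h : EF π)
    {G : ∀ i, κ i → Sh J} {σ : ∀ i k, G i k ⟶ F i} (hσ : ∀ i, EF (σ i)) :
    EF fun p : Σ i, κ i => σ p.1 p.2 ≫ π p.1 := fun Z a b e =>
  h Z a b fun i => hσ i Z _ _ fun k => by simpa using e ⟨i, k⟩

theorem EF.of_factor {ι κ : Type*} {X : Sh J} {F : ι → Sh J} {G : κ → Sh J} {π : ∀ i, F i ⟶ X}
    {σ : ∀ k, G k ⟶ X} (h : EF π) (hf : ∀ i, ∃ k, ∃ m : F i ⟶ G k, m ≫ σ k = π i) : EF σ := fun Z a b e =>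
  h Z a b fun i => by
    obtain ⟨k, m, hm⟩ := hf i
    rw [← hm, Category.assoc, Category.assoc, e]

theorem EF.comp {ι : Type*} {X Y : Sh J} {F : ι → Sh J} {π : ∀ i, F i ⟶ X} (h : EF π) (g : X ⟶ Y)
    [Epi g] : EF fun i => π i ≫ g := fun Z a b e =>
  (cancel_epi g).1 (h Z _ _ fun i => by simpa using e i)

lemma isInitial_of_ef {ι : Type*} [IsEmpty ι] {X : Sh J} {F : ι → Sh J} {π : ∀ i, F i ⟶ X} (h : EF π) :
    Nonempty (IsInitial X) := by
  rw [ef_iff_local] at h
  have hb : ∀ (U : Cᵒᵖ), X.obj.obj U → (⊥ : Sieve U.unop) ∈ J U.unop := fun U y =>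
    J.superset_covering (S := imgSieve π y) (fun V f (hf : imgSieve π y f) => isEmptyElim hf.choose) (h U.unop y)
  have hs : ∀ (Z : Sh J) (U : Cᵒᵖ), X.obj.obj U → ∃! _s : Z.obj.obj U, True := fun Z U y => by
    obtain ⟨s, -, hu⟩ := ((isSheaf_iff_isSheaf_of_type J _).1 Z.property) _ (hb U y)
      (fun V f (hf : False) => hf.elim) (fun _ _ _ _ _ _ _ h₁ _ _ => h₁.elim)
    exact ⟨s, trivial, fun t _ => hu t fun V f hf => hf.elim⟩
  refine ⟨IsInitial.ofUniqueHom (fun Z => ⟨{ app := fun U => ↾fun y => (hs Z U y).exists.choose, naturality := ?_ }⟩)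
    (fun Z m => ?_)⟩
  · intro U V f
    ext y
    exact (hs Z V (X.obj.map f y)).unique trivial trivial
  · ext U y
    exact (hs Z U y).unique trivial trivial

lemma isInitial_of_hom {A I : Sh J} (hI : IsInitial I) (f : A ⟶ I) : Nonempty (IsInitial A) := by
  have h : EF (ι := PEmpty.{1}) (F := fun _ => I) (fun i => i.elim) :=
    fun Z a b _ => hI.hom_ext a b
  exact isInitial_of_ef (EF.base h f)

end ToposFinLib
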