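/-
Quasi-compact and quasi-separated objects and morphisms.
-/
import Groth.Agent.ToposFinLib.EF
import Mathlib.CategoryTheory.MorphismProperty.Limits

set_option autoImplicit false
set_option linter.style.haveILetI false

universe u

open CategoryTheory Limits Opposite ToposFin

namespace ToposFinLib

attribute [local simp] pullback.lift_fst pullback.lift_snd pullback.lift_fst_assoc pullback.lift_snd_assoc pullback.map

variable {C : Type u} [SmallCategory C] {J : GrothendieckTopology C}

lemma isQC_iff (X : Sh J) :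
    IsQC X ↔ ∀ (ι : Type u) (F : ι → Sh J) (π : ∀ i, F i ⟶ X), EF π →
      ∃ s : Finset ι, EF fun i : s => π i := by
  simp only [IsQC, epi_desc_iff]

/-- A finite jointly epimorphic family with quasi-compact sources has quasi-compact target. -/
theorem isQC_of_finite {X : Sh J} {κ : Type*} [Finite κ] {F : κ → Sh J} (π : ∀ k, F k ⟶ X) (h : EF π)
    (hF : ∀ k, IsQC (F k)) : IsQC X := by
  classical
  haveI := Fintype.ofFinite κ
  rw [isQC_iff]
  intro ι G σ hσ
  have hk := fun k => (isQC_iff (F k)).1 (hF k) ι _ _ (hσ.base (π k))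
  choose s hs using hk
  refine ⟨Finset.univ.biUnion s, fun Z a b e => h Z a b fun k => hs k Z _ _ fun i => ?_⟩
  rw [← pullback.condition_assoc (f := σ i.1) (g := π k), ← pullback.condition_assoc (f := σ i.1) (g := π k)]
  exact congrArg (pullback.fst (σ i.1) (π k) ≫ ·) (e ⟨i.1, Finset.mem_biUnion.2 ⟨k, Finset.mem_univ _, i.2⟩⟩)

lemma isQC_of_iso {X Y : Sh J} (e : X ≅ Y) (h : IsQC X) : IsQC Y :=
  isQC_of_finite (κ := PUnit.{1}) (fun _ => e.hom) (fun Z a b he => (cancel_epi e.hom).1 (he ⟨⟩)) fun _ => h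

lemma isQC_of_isPullback {P X Y S : Sh J} {p : P ⟶ X} {q : P ⟶ Y} {f : X ⟶ S} {g : Y ⟶ S}
    (hp : IsPullback p q f g) (h : IsQC (pullback f g)) : IsQC P :=
  isQC_of_iso hp.isoPullback.symm h

lemma isQC_of_isInitial {X : Sh J} (h : IsInitial X) : IsQC X :=
  isQC_of_finite (κ := PEmpty.{1}) (F := fun _ => X) (fun k => k.elim) (fun Z a b _ => h.hom_ext a b) fun k => k.elim

lemma IsQCHom.isQC {P X Y S : Sh J} {p : P ⟶ X} {q : P ⟶ Y} {f : X ⟶ S} {g : Y ⟶ S} (hf : IsQCHom f)
    (hp : IsPullback p q f g) (hY : IsQC Y) : IsQC P :=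
  isQC_of_isPullback hp (hf Y g hY)

lemma IsQCHom.of_isPullback {X' Y' X Y : Sh J} {t : X' ⟶ X} {f' : X' ⟶ Y'} {f : X ⟶ Y} {g : Y' ⟶ Y}
    (hp : IsPullback t f' f g) (hf : IsQCHom f) : IsQCHom f' := fun T h hT =>
  IsQCHom.isQC hf ((IsPullback.of_hasPullback f' h).paste_horiz hp) hT

lemma IsQCHom.comp {X Y Z : Sh J} {f : X ⟶ Y} {g : Y ⟶ Z} (hf : IsQCHom f) (hg : IsQCHom g) :
    IsQCHom (f ≫ g) := fun T h hT =>
  isQC_of_iso ((IsPullback.of_hasPullback f (pullback.fst g h)).paste_vert
    (IsPullback.of_hasPullback g h)).isoPullback (hf _ _ (hg T h hT))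

lemma IsQCHom.of_isIso {X Y : Sh J} (f : X ⟶ Y) [IsIso f] : IsQCHom f := fun T h hT =>
  isQC_of_iso (asIso (pullback.snd f h)).symm hT

/-- The diagonal of a base change is a base change of the diagonal. -/
lemma isPullback_diagonal {P X Y Y' : Sh J} {t : P ⟶ X} {s : P ⟶ Y'} {f : X ⟶ Y} {g : Y' ⟶ Y}
    (hp : IsPullback t s f g) :
    IsPullback t (pullback.diagonal s) (pullback.diagonal f) (pullback.map s s f f t t g hp.w.symm hp.w.symm) := by
  refine ⟨⟨by apply pullback.hom_ext <;> simp⟩, ⟨PullbackCone.IsLimit.mk _ (fun c => c.snd ≫ pullback.fst s s)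
    (fun c => ?_) (fun c => ?_) (fun c m h₁ h₂ => ?_)⟩⟩
  · have := c.condition =≫ pullback.fst f f
    simpa using this.symm
  · have h₁ := c.condition =≫ pullback.fst f f
    have h₂ := c.condition =≫ pullback.snd f f
    simp only [Category.assoc, pullback.diagonal_fst, pullback.diagonal_snd, Category.comp_id,
      pullback.map, pullback.lift_fst, pullback.lift_snd] at h₁ h₂
    have h₃ : c.snd ≫ pullback.fst s s = c.snd ≫ pullback.snd s s := by
      apply hp.hom_ext
      · simp only [Category.assoc]; exact h₁.symm.trans h₂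
      · simp only [Category.assoc, pullback.condition]
    apply pullback.hom_ext <;> simp [h₃]
  · simpa using h₂ =≫ pullback.fst s s

lemma IsQSHom.of_isPullback {X' Y' X Y : Sh J} {t : X' ⟶ X} {f' : X' ⟶ Y'} {f : X ⟶ Y} {g : Y' ⟶ Y}
    (hp : IsPullback t f' f g) (hf : IsQSHom f) : IsQSHom f' :=
  IsQCHom.of_isPullback (isPullback_diagonal hp) hf

lemma isPullback_diag_comp {X Y Z : Sh J} (f : X ⟶ Y) (g : Y ⟶ Z) :
    IsPullback (pullback.fst f f ≫ f)
      (pullback.map f f (f ≫ g) (f ≫ g) (𝟙 X) (𝟙 X) g (by simp) (by simp))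
      (pullback.diagonal g) (pullback.map (f ≫ g) (f ≫ g) g g f f (𝟙 Z) (by simp) (by simp)) := by
  refine ⟨⟨by apply pullback.hom_ext <;> simp [pullback.condition]⟩, ⟨PullbackCone.IsLimit.mk _
    (fun c => pullback.lift (c.snd ≫ pullback.fst (f ≫ g) (f ≫ g)) (c.snd ≫ pullback.snd (f ≫ g) (f ≫ g)) ?_)
    (fun c => ?_) (fun c => ?_) (fun c m h₁ h₂ => ?_)⟩⟩
  · have h₁ := c.condition =≫ pullback.fst g g
    have h₂ := c.condition =≫ pullback.snd g g
    simp only [Category.assoc, pullback.diagonal_fst, pullback.diagonal_snd, Category.comp_id,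
      pullback.map, pullback.lift_fst, pullback.lift_snd] at h₁ h₂
    simp only [Category.assoc]
    exact h₁.symm.trans h₂
  · have h₁ := c.condition =≫ pullback.fst g g
    simpa using h₁.symm
  · apply pullback.hom_ext <;> simp
  · apply pullback.hom_ext
    · simpa using h₂ =≫ pullback.fst (f ≫ g) (f ≫ g)
    · simpa using h₂ =≫ pullback.snd (f ≫ g) (f ≫ g)

lemma diag_comp {X Y Z : Sh J} (f : X ⟶ Y) (g : Y ⟶ Z) :
    pullback.diagonal (f ≫ g) =
      pullback.diagonal f ≫ pullback.map f f (f ≫ g) (f ≫ g) (𝟙 X) (𝟙 X) g (by simp) (by simp) := by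
  apply pullback.hom_ext <;> simp

lemma IsQSHom.comp {X Y Z : Sh J} {f : X ⟶ Y} {g : Y ⟶ Z} (hf : IsQSHom f) (hg : IsQSHom g) :
    IsQSHom (f ≫ g) := by
  unfold IsQSHom
  rw [diag_comp]
  exact IsQCHom.comp hf (IsQCHom.of_isPullback (isPullback_diag_comp f g) hg)

lemma IsQSHom.of_mono {X Y : Sh J} (f : X ⟶ Y) [Mono f] : IsQSHom f := IsQCHom.of_isIso _

lemma IsQSHom.of_comp {X Y Z : Sh J} (f : X ⟶ Y) (g : Y ⟶ Z) (h : IsQSHom (f ≫ g)) : IsQSHom f := by
  let j := pullback.map f f (f ≫ g) (f ≫ g) (𝟙 X) (𝟙 X) g (by simp) (by simp)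
  haveI : Mono j := ⟨fun {W} a b e => pullback.hom_ext
    (by simpa [j] using e =≫ pullback.fst (f ≫ g) (f ≫ g))
    (by simpa [j] using e =≫ pullback.snd (f ≫ g) (f ≫ g))⟩
  refine IsQCHom.of_isPullback (t := 𝟙 X) (g := j) ⟨⟨by rw [Category.id_comp, diag_comp]⟩,
    ⟨PullbackCone.IsLimit.mk _ (fun c => c.fst) (fun c => Category.comp_id _) (fun c => ?_)
      (fun c m h₁ _ => by simpa using h₁)⟩⟩ h
  rw [← cancel_mono j, Category.assoc, ← diag_comp, c.condition]

lemma isPullback_graph {X Y Z : Sh J} (f : X ⟶ Y) (g : Y ⟶ Z) :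
    IsPullback f (pullback.lift (𝟙 X) f (by simp) : X ⟶ pullback (f ≫ g) g) (pullback.diagonal g)
      (pullback.map (f ≫ g) g g g f (𝟙 Y) (𝟙 Z) (by simp) (by simp)) := by
  refine ⟨⟨by apply pullback.hom_ext <;> simp⟩, ⟨PullbackCone.IsLimit.mk _ (fun c => c.snd ≫ pullback.fst (f ≫ g) g)
    (fun c => ?_) (fun c => ?_) (fun c m h₁ h₂ => ?_)⟩⟩
  · simpa using (c.condition =≫ pullback.fst g g).symm
  · have h₁ := c.condition =≫ pullback.fst g g
    have h₂ := c.condition =≫ pullback.snd g g
    simp only [Category.assoc, pullback.diagonal_fst, pullback.diagonal_snd, Category.comp_id,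
      pullback.map, pullback.lift_fst, pullback.lift_snd] at h₁ h₂
    apply pullback.hom_ext
    · simp
    · simp only [Category.assoc, pullback.lift_snd]
      exact h₁.symm.trans h₂
  · simpa using h₂ =≫ pullback.fst (f ≫ g) g

lemma IsQCHom.of_comp {X Y Z : Sh J} (f : X ⟶ Y) (g : Y ⟶ Z) (h : IsQCHom (f ≫ g)) (hg : IsQSHom g) :
    IsQCHom f := by
  have h₁ := IsQCHom.of_isPullback (isPullback_graph f g) hg
  have h₂ := IsQCHom.of_isPullback (IsPullback.of_hasPullback (f ≫ g) g) h
  simpa using IsQCHom.comp h₁ h₂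

variable (J) in
/-- Quasi-compact morphisms. -/
def qcProp : MorphismProperty (Sh J) := fun _ _ f => IsQCHom f

instance : (qcProp J).IsStableUnderBaseChange where
  of_isPullback hp h := IsQCHom.of_isPullback hp h

instance : (qcProp J).IsStableUnderComposition where
  comp_mem _ _ hf hg := IsQCHom.comp hf hg

variable (J) in
/-- Quasi-separated morphisms. -/
def qsProp : MorphismProperty (Sh J) := fun _ _ f => IsQSHom f

instance : (qsProp J).IsStableUnderBaseChange where
  of_isPullback hp h := IsQSHom.of_isPullback hp h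

instance : (qsProp J).IsStableUnderComposition where
  comp_mem _ _ hf hg := IsQSHom.comp hf hg

/-- If the members of a jointly epimorphic family over a quasi-compact object are covered by quasi-compact
objects, so is the object by finitely many of them. -/
theorem exists_finite_cover (hE : HasQCGenerators J) {A : Sh J} (hA : IsQC A) {ι : Type u}
    {F : ι → Sh J} {π : ∀ i, F i ⟶ A} (h : EF π) :
    ∃ (κ : Type u) (_ : Finite κ) (W : κ → Sh J) (w : ∀ k, W k ⟶ A),
      EF w ∧ ∀ k, IsQC (W k) ∧ ∃ i, ∃ m : W k ⟶ F i, m ≫ π i = w k := by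
  choose κ W σ hW hσ using fun i => hE (F i)
  obtain ⟨s, hs⟩ := (isQC_iff A).1 hA _ _ _ (h.bind fun i => (epi_desc_iff (σ i)).1 (hσ i))
  exact ⟨s, inferInstance, fun k => W k.1.1 k.1.2, fun k => σ k.1.1 k.1.2 ≫ π k.1.1, hs,
    fun k => ⟨hW k.1.1 k.1.2, k.1.1, σ k.1.1 k.1.2, rfl⟩⟩

/-- Quasi-compactness of a morphism is local on the target. -/
theorem IsQCHom.of_local (hE : HasQCGenerators J) {X Y : Sh J} (f : X ⟶ Y) {ι : Type u} {F : ι → Sh J}
    {g : ∀ i, F i ⟶ Y} (hg : EF g) {P : ι → Sh J} (t : ∀ i, P i ⟶ X) (s : ∀ i, P i ⟶ F i)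
    (hp : ∀ i, IsPullback (t i) (s i) f (g i)) (h : ∀ i, IsQCHom (s i)) : IsQCHom f := by
  intro T b hT
  obtain ⟨κ, _, W, w, hw, hW⟩ := exists_finite_cover hE hT (hg.base b)
  refine isQC_of_finite _ (hw.base (pullback.snd f b)) fun k => ?_
  obtain ⟨hWk, i, m, hm⟩ := hW k
  have h₁ := IsQCHom.isQC (h i) (IsPullback.of_hasPullback (s i) (m ≫ pullback.fst (g i) b)) hWk
  have e : (m ≫ pullback.fst (g i) b) ≫ g i = w k ≫ b := by
    rw [← hm]; simp [pullback.condition]
  have h₂ := (IsPullback.of_hasPullback (s i) (m ≫ pullback.fst (g i) b)).paste_horiz (hp i)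
  rw [e] at h₂
  have h₃ := ((IsPullback.of_hasPullback (w k) (pullback.snd f b)).flip.paste_horiz
    (IsPullback.of_hasPullback f b))
  exact isQC_of_iso (h₂.isoIsPullback _ _ h₃) h₁

/-- A mono summand of a quasi-compact object is quasi-compact. -/
theorem isQC_summand {A : Sh J} (hA : IsQC A) {ι : Type u} {F : ι → Sh J} {k : ∀ i, F i ⟶ A} (h : EF k)
    (hm : ∀ i, Mono (k i)) (hd : ∀ i j, i ≠ j → Nonempty (IsInitial (pullback (k i) (k j)))) (i : ι) :
    IsQC (F i) := by
  classical
  rw [isQC_iff] at hA ⊢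
  intro κ G σ hσ
  haveI := hm i
  let H : κ ⊕ {j // j ≠ i} → Sh J := Sum.elim G fun j => F j.1
  let τ : ∀ p, H p ⟶ A := fun p => match p with
    | .inl x => σ x ≫ k i
    | .inr j => k j.1
  have hτ : EF τ := fun Z a b e => h Z a b fun j => by
    by_cases hj : j = i
    · subst hj
      exact hσ Z _ _ fun x => by
        have := e (.inl x)
        simp only [τ, Category.assoc] at this
        exact this
    · exact e (.inr ⟨j, hj⟩)
  obtain ⟨s, hs⟩ := hA _ H τ hτ
  refine ⟨s.preimage Sum.inl Sum.inl_injective.injOn, fun Z a b e => (hs.base (k i)) Z a b fun p => ?_⟩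
  obtain ⟨p, hp⟩ := p
  cases p with
  | inl x =>
    have : pullback.snd (τ (.inl x)) (k i) = pullback.fst (τ (.inl x)) (k i) ≫ σ x := by
      rw [← cancel_mono (k i), ← pullback.condition, Category.assoc]
    dsimp only
    rw [this, Category.assoc, Category.assoc]
    exact congrArg (pullback.fst (τ (.inl x)) (k i) ≫ ·) (e ⟨x, by simpa using hp⟩)
  | inr j => exact (hd j.1 i j.2).some.hom_ext _ _

/-- Coproduct injections are monomorphisms, disjoint, and jointly epimorphic. -/
theorem coprod_props {ι : Type u} {F : ι → Sh J} {c : Cofan F} (hc : IsColimit c) :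
    EF c.inj ∧ (∀ i, Mono (c.inj i)) ∧
      ∀ i j, i ≠ j → Nonempty (IsInitial (pullback (c.inj i) (c.inj j))) := by
  obtain ⟨c₀, hc₀, hd, -⟩ := TopLib.sheaf_coproducts J ι F
  exact ⟨fun Z a b e => Cofan.IsColimit.hom_ext hc _ _ e, fun i => CoproductDisjoint.mono_inj hc i,
    fun i j hij => CoproductDisjoint.nonempty_isInitial_of_ne hc hij _ (pullback.isLimit _ _)⟩

/-- The pieces of a quasi-compact object over a coproduct are quasi-compact. -/
theorem isQC_component {ι : Type u} {F : ι → Sh J} {c : Cofan F} (hc : IsColimit c) {A : Sh J} (hA : IsQC A)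
    (a : A ⟶ c.pt) (i : ι) : IsQC (pullback a (c.inj i)) := by
  obtain ⟨he, hm, hd⟩ := coprod_props hc
  refine isQC_summand hA (k := fun j => pullback.fst a (c.inj j)) (he.base' a) (fun j => ?_)
    (fun j l hjl => ?_) i
  · haveI := hm j
    infer_instance
  · obtain ⟨h0⟩ := hd j l hjl
    exact isInitial_of_hom h0 (pullback.lift
      (pullback.fst (pullback.fst a (c.inj j)) (pullback.fst a (c.inj l)) ≫ pullback.snd a (c.inj j))
      (pullback.snd (pullback.fst a (c.inj j)) (pullback.fst a (c.inj l)) ≫ pullback.snd a (c.inj l))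
      (by simp only [Category.assoc, ← pullback.condition]; rw [pullback.condition_assoc]))

/-- Coproduct injections are quasi-compact. -/
theorem isQCHom_inj {ι : Type u} {F : ι → Sh J} {c : Cofan F} (hc : IsColimit c) (i : ι) :
    IsQCHom (c.inj i) := fun T b hT =>
  isQC_of_iso (pullbackSymmetry _ _) (isQC_component hc hT b i)

/-- Quasi-compact objects over a coproduct meet finitely many summands. -/
theorem exists_finset_component {ι : Type u} {F : ι → Sh J} {c : Cofan F} (hc : IsColimit c) {A : Sh J}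
    (hA : IsQC A) (a : A ⟶ c.pt) :
    ∃ s : Finset ι, EF fun i : s => pullback.fst a (c.inj i) :=
  (isQC_iff A).1 hA _ _ _ ((coprod_props hc).1.base' a)

/-- Quasi-separatedness is inherited along a quasi-separated morphism. -/
theorem IsQS.of_hom {X Y : Sh J} (f : X ⟶ Y) (hf : IsQSHom f) (hY : IsQS Y) : IsQS X := by
  intro A B a b hA hB
  have hg := IsQCHom.of_isPullback (t := pullback.fst a b ≫ a) (g := pullback.map (a ≫ f) (b ≫ f) f f a b (𝟙 Y) (by simp) (by simp))
    (f' := pullback.map a b (a ≫ f) (b ≫ f) (𝟙 A) (𝟙 B) f (by simp) (by simp)) ?_ hf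
  · exact isQC_of_iso (asIso (pullback.fst (pullback.map a b (a ≫ f) (b ≫ f) (𝟙 A) (𝟙 B) f (by simp) (by simp)) (𝟙 _)))
      (hg _ (𝟙 _) (hY A B (a ≫ f) (b ≫ f) hA hB))
  refine ⟨⟨by apply pullback.hom_ext <;> simp [pullback.condition]⟩, ⟨PullbackCone.IsLimit.mk _
    (fun c => pullback.lift (c.snd ≫ pullback.fst _ _) (c.snd ≫ pullback.snd _ _) ?_)
    (fun c => ?_) (fun c => ?_) (fun c m h₁ h₂ => ?_)⟩⟩
  · have h₁ := c.condition =≫ pullback.fst f f
    have h₂ := c.condition =≫ pullback.snd f f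
    simp at h₁ h₂
    simpa using h₁.symm.trans h₂
  · have h₁ := c.condition =≫ pullback.fst f f
    simpa using h₁.symm
  · apply pullback.hom_ext <;> simp
  · apply pullback.hom_ext
    · simpa using h₂ =≫ pullback.fst _ _
    · simpa using h₂ =≫ pullback.snd _ _

/-- A morphism out of a coproduct with quasi-separated components is quasi-separated. -/
theorem isQSHom_of_components {ι : Type u} {F : ι → Sh J} {c : Cofan F} (hc : IsColimit c) {Y : Sh J}
    (f : c.pt ⟶ Y) (h : ∀ i, IsQSHom (c.inj i ≫ f)) : IsQSHom f := by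
  obtain ⟨he, hm, hd⟩ := coprod_props hc
  intro T b hT
  obtain ⟨s, hs⟩ := exists_finset_component hc hT (b ≫ pullback.fst f f)
  refine isQC_of_finite _ (hs.base' (pullback.snd (pullback.diagonal f) b)) fun i => ?_
  -- the piece over the `i`-th component
  obtain ⟨s', hs'⟩ := exists_finset_component hc (isQC_component hc hT (b ≫ pullback.fst f f) i.1)
    (pullback.fst (b ≫ pullback.fst f f) (c.inj i.1) ≫ b ≫ pullback.snd f f)
  refine isQC_of_finite _ (hs'.base' (pullback.snd (pullback.snd (pullback.diagonal f) b)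
    (pullback.fst (b ≫ pullback.fst f f) (c.inj i.1)))) fun j => ?_
  let Q := pullback (pullback.fst (b ≫ pullback.fst f f) (c.inj i.1) ≫ b ≫ pullback.snd f f) (c.inj j.1)
  let q : Q ⟶ T := pullback.fst _ _ ≫ pullback.fst _ _
  let y₁ : Q ⟶ F i.1 := pullback.fst _ _ ≫ pullback.snd (b ≫ pullback.fst f f) (c.inj i.1)
  let y₂ : Q ⟶ F j.1 := pullback.snd _ _
  have e₁ : y₁ ≫ c.inj i.1 = (q ≫ b) ≫ pullback.fst f f := by
    simp [y₁, q, ← pullback.condition]
  have e₂ : y₂ ≫ c.inj j.1 = (q ≫ b) ≫ pullback.snd f f := by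
    simp [y₂, q, ← pullback.condition]
  have hQ : IsQC Q := isQC_component hc (isQC_component hc hT (b ≫ pullback.fst f f) i.1) _ j.1
  have key : IsQC (pullback (pullback.diagonal f) (q ≫ b)) := by
    by_cases hij : i.1 = j.1
    · obtain ⟨i, hi⟩ := i
      obtain ⟨j, hj⟩ := j
      change i = j at hij
      subst hij
      haveI := hm i
      have hy : y₁ ≫ c.inj i ≫ f = y₂ ≫ c.inj i ≫ f := by
        rw [reassoc_of% e₁, reassoc_of% e₂, pullback.condition]
      let P := pullback (pullback.diagonal (c.inj i ≫ f)) (pullback.lift y₁ y₂ hy)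
      have hP : IsQC P := h i Q _ hQ
      have c₁ : pullback.fst (pullback.diagonal (c.inj i ≫ f)) (pullback.lift y₁ y₂ hy) =
          pullback.snd _ _ ≫ y₁ := by
        simpa using (pullback.condition (f := pullback.diagonal (c.inj i ≫ f)) (g := pullback.lift y₁ y₂ hy)) =≫ pullback.fst _ _
      have c₂ : pullback.fst (pullback.diagonal (c.inj i ≫ f)) (pullback.lift y₁ y₂ hy) =
          pullback.snd _ _ ≫ y₂ := by
        simpa using (pullback.condition (f := pullback.diagonal (c.inj i ≫ f)) (g := pullback.lift y₁ y₂ hy)) =≫ pullback.snd _ _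
      refine isQC_of_iso ?_ hP
      refine (IsPullback.isoPullback (fst := pullback.fst _ _ ≫ c.inj i) (snd := pullback.snd _ _) ?_)
      refine ⟨⟨?_⟩, ⟨PullbackCone.IsLimit.mk _ (fun d => pullback.lift (d.snd ≫ y₁) d.snd ?_)
        (fun d => ?_) (fun d => ?_) (fun d m h₁ h₂ => ?_)⟩⟩
      · apply pullback.hom_ext
        · simp only [Category.assoc, pullback.diagonal_fst, Category.comp_id]
          rw [c₁, Category.assoc, e₁, Category.assoc]
        · simp only [Category.assoc, pullback.diagonal_snd, Category.comp_id]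
          rw [c₂, Category.assoc, e₂, Category.assoc]
      · have h₁ := d.condition =≫ pullback.fst f f
        have h₂ := d.condition =≫ pullback.snd f f
        simp only [Category.assoc, pullback.diagonal_fst, pullback.diagonal_snd, Category.comp_id] at h₁ h₂
        have : d.snd ≫ y₁ = d.snd ≫ y₂ := by
          refine (cancel_mono (c.inj i)).1 ?_
          simp only [Category.assoc, e₁, e₂]
          exact h₁.symm.trans h₂
        apply pullback.hom_ext <;> simp [this]
      · have h₁ := d.condition =≫ pullback.fst f f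
        simp only [Category.assoc, pullback.diagonal_fst, Category.comp_id] at h₁
        simp only [pullback.lift_fst_assoc, Category.assoc, e₁]
        exact h₁.symm
      · simp
      · apply pullback.hom_ext
        · rw [c₁, pullback.lift_snd_assoc, ← Category.assoc, h₂]
        · simpa using h₂
    · obtain ⟨h0⟩ := hd i.1 j.1 hij
      refine isQC_of_isInitial (isInitial_of_hom h0 (pullback.lift
        (pullback.snd (pullback.diagonal f) (q ≫ b) ≫ y₁) (pullback.snd (pullback.diagonal f) (q ≫ b) ≫ y₂) ?_)).some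
      simp only [Category.assoc, e₁, e₂]
      rw [← Category.assoc q b, ← Category.assoc q b, ← pullback.condition_assoc, ← pullback.condition_assoc]
      simp
  have hq := ((IsPullback.of_hasPullback (pullback.snd (pullback.snd (pullback.diagonal f) b)
    (pullback.fst (b ≫ pullback.fst f f) (c.inj i.1))) (pullback.fst (pullback.fst (b ≫ pullback.fst f f) (c.inj i.1) ≫ b ≫ pullback.snd f f) (c.inj j.1))).paste_horiz
      (IsPullback.of_hasPullback (pullback.snd (pullback.diagonal f) b) (pullback.fst (b ≫ pullback.fst f f) (c.inj i.1)))).paste_horiz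
      (IsPullback.of_hasPullback (pullback.diagonal f) b)
  exact isQC_of_isPullback hq key

end ToposFinLib
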