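/-
Criteria for quasi-separatedness; algebraic topoi.
-/
import Groth.Agent.ToposFinLib.Basic
import Groth.Prelude.Def_ToposFin2

set_option autoImplicit false
set_option linter.style.haveILetI false

universe u

open CategoryTheory Limits Opposite ToposFin

namespace ToposFinLib

attribute [local simp] pullback.lift_fst pullback.lift_snd pullback.lift_fst_assoc pullback.lift_snd_assoc pullback.map

variable {C : Type u} [SmallCategory C] {J : GrothendieckTopology C}

lemma isQCHom_of_isQS {A Y : Sh J} (a : A ⟶ Y) (hA : IsQC A) (hY : IsQS Y) : IsQCHom a :=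
  fun T b hT => hY A T a b hA hT

lemma isQS_of_iso {X Y : Sh J} (e : X ≅ Y) (h : IsQS X) : IsQS Y :=
  IsQS.of_hom e.inv (IsQSHom.of_mono _) h

lemma isCoherent_of_iso {X Y : Sh J} (e : X ≅ Y) (h : IsCoherent X) : IsCoherent Y :=
  ⟨isQC_of_iso e h.1, isQS_of_iso e h.2⟩

lemma qcGen_of_generating {S : Set (Sh J)} (hqc : ∀ K ∈ S, IsQC K) (hgen : IsGenerating S) :
    HasQCGenerators J := fun X => by
  obtain ⟨ι, F, π, hF, hπ⟩ := hgen X
  exact ⟨ι, F, π, fun i => hqc _ (hF i), (epi_desc_iff π).2 hπ⟩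

/-- The base change of the diagonal along a map of fibre products. -/
lemma isPullback_diag_map {A B X Y : Sh J} (a : A ⟶ X) (b : B ⟶ X) (f : X ⟶ Y) :
    IsPullback (pullback.fst a b ≫ a)
      (pullback.map a b (a ≫ f) (b ≫ f) (𝟙 A) (𝟙 B) f (by simp) (by simp))
      (pullback.diagonal f) (pullback.map (a ≫ f) (b ≫ f) f f a b (𝟙 Y) (by simp) (by simp)) := by
  refine ⟨⟨by apply pullback.hom_ext <;> simp [pullback.condition]⟩, ⟨PullbackCone.IsLimit.mk _
    (fun c => pullback.lift (c.snd ≫ pullback.fst _ _) (c.snd ≫ pullback.snd _ _) ?_)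
    (fun c => ?_) (fun c => ?_) (fun c m h₁ h₂ => ?_)⟩⟩
  · have h₁ := c.condition =≫ pullback.fst f f
    have h₂ := c.condition =≫ pullback.snd f f
    simp at h₁ h₂
    simpa using h₁.symm.trans h₂
  · have h₁ := c.condition =≫ pullback.fst f f
    simpa using h₁.symm
  · apply pullback.hom_ext <;> simp
  · apply pullback.hom_ext
    · simpa using h₂ =≫ pullback.fst _ _
    · simpa using h₂ =≫ pullback.snd _ _

/-- The products of a covering family cover the fibre product. -/
lemma EF.prod {ι : Type*} {X Y : Sh J} {F : ι → Sh J} {g : ∀ i, F i ⟶ X} (hg : EF g) (f : X ⟶ Y) :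
    EF fun p : ι × ι => pullback.map (g p.1 ≫ f) (g p.2 ≫ f) f f (g p.1) (g p.2) (𝟙 Y) (by simp) (by simp) := by
  refine ((hg.base' (pullback.fst f f)).bind
    (σ := fun i j => pullback.fst (pullback.fst (pullback.fst f f) (g i) ≫ pullback.snd f f) (g j))
    (fun i => hg.base' (pullback.fst (pullback.fst f f) (g i) ≫ pullback.snd f f))).of_factor fun p => ⟨(p.1, p.2), ?_⟩
  refine ⟨pullback.lift (pullback.fst _ _ ≫ pullback.snd (pullback.fst f f) (g p.1))
    (pullback.snd _ (g p.2)) ?_, ?_⟩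
  · simp only [Category.assoc]
    rw [← pullback.condition_assoc (f := pullback.fst f f) (g := g p.1),
      ← pullback.condition_assoc (f := pullback.fst (pullback.fst f f) (g p.1) ≫ pullback.snd f f) (g := g p.2)]
    simp only [Category.assoc, pullback.condition]
  · apply pullback.hom_ext
    · simp [← pullback.condition]
    · simp [← pullback.condition]

/-- Quasi-separatedness is local on the source along quasi-compact covering maps. -/
theorem isQSHom_of_cover (hE : HasQCGenerators J) {X Y : Sh J} (f : X ⟶ Y) {ι : Type u} {F : ι → Sh J}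
    {g : ∀ i, F i ⟶ X} (hg : EF g) (hqc : ∀ i, IsQCHom (g i)) (hqs : ∀ i, IsQSHom (g i ≫ f)) :
    IsQSHom f := by
  refine IsQCHom.of_local hE (pullback.diagonal f) (EF.prod hg f) _ _
    (fun p => isPullback_diag_map (g p.1) (g p.2) f) fun p => ?_
  refine IsQCHom.of_comp _ (pullback.fst (g p.1 ≫ f) (g p.2 ≫ f)) ?_
    (IsQSHom.of_isPullback (IsPullback.of_hasPullback (g p.1 ≫ f) (g p.2 ≫ f)).flip (hqs p.2))
  have e : pullback.map (g p.1) (g p.2) (g p.1 ≫ f) (g p.2 ≫ f) (𝟙 _) (𝟙 _) f (by simp) (by simp) ≫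
      pullback.fst (g p.1 ≫ f) (g p.2 ≫ f) = pullback.fst (g p.1) (g p.2) := by simp
  rw [e]
  exact IsQCHom.of_isPullback (IsPullback.of_hasPullback (g p.1) (g p.2)).flip (hqc p.2)

/-- Quasi-separatedness is local along quasi-compact covering maps from quasi-separated objects. -/
theorem isQS_of_cover (hE : HasQCGenerators J) {Y : Sh J} {ι : Type u} {F : ι → Sh J} {g : ∀ i, F i ⟶ Y}
    (hg : EF g) (hqs : ∀ i, IsQS (F i)) (hqc : ∀ i, IsQCHom (g i)) : IsQS Y := by
  intro A B a b hA hB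
  obtain ⟨κ, _, W, w, hw, hW⟩ := exists_finite_cover hE hA (hg.base a)
  refine isQC_of_finite _ (hw.base' (pullback.fst a b)) fun k => ?_
  obtain ⟨hWk, i, m, hm⟩ := hW k
  have hB' : IsQC (pullback (g i) b) := hqc i B b hB
  refine isQC_of_iso ?_ (hqs i _ _ (m ≫ pullback.fst (g i) a) (pullback.fst (g i) b) hWk hB')
  have e : (m ≫ pullback.fst (g i) a) ≫ g i = w k ≫ a := by rw [← hm]; simp [pullback.condition]
  have h₁ := (IsPullback.of_hasPullback (pullback.fst a b) (w k)).flip.paste_vert (IsPullback.of_hasPullback a b)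
  have h₂ := (IsPullback.of_hasPullback (m ≫ pullback.fst (g i) a) (pullback.fst (g i) b)).paste_vert
    (IsPullback.of_hasPullback (g i) b)
  rw [e] at h₂
  exact h₂.isoIsPullback _ _ h₁

/-- A morphism whose target is covered by coherent objects with quasi-compact fibre products. -/
theorem isQCHom_of_cover_qc (hE : HasQCGenerators J) {Y : Sh J} {ι : Type u} {F : ι → Sh J} {g : ∀ i, F i ⟶ Y}
    (hg : EF g) (hc : ∀ i, IsCoherent (F i)) (h : ∀ i j, IsQC (pullback (g i) (g j))) (i : ι) :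
    IsQCHom (g i) :=
  IsQCHom.of_local hE (g i) hg _ _ (fun j => IsPullback.of_hasPullback (g i) (g j))
    fun j => isQCHom_of_isQS _ (h i j) (hc j).2

/-- Members of a quasi-compact generating family stable under fibre products are coherent. -/
theorem isQS_of_closedPullbacks {S : Set (Sh J)} (hqc : ∀ K ∈ S, IsQC K) (hgen : IsGenerating S)
    (hpb : ClosedUnderPullbacks S) {K : Sh J} (hK : K ∈ S) : IsQS K := by
  intro A B a b hA hB
  obtain ⟨ι, F, π, hF, hπ⟩ := hgen A
  obtain ⟨s, hs⟩ := (isQC_iff A).1 hA ι F π hπ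
  obtain ⟨κ, G, σ, hG, hσ⟩ := hgen B
  obtain ⟨t, ht⟩ := (isQC_iff B).1 hB κ G σ hσ
  refine isQC_of_finite _ (hs.base' (pullback.fst a b)) fun i => ?_
  refine isQC_of_finite _ (ht.base' (pullback.fst (pullback.fst a b) (π i.1) ≫ pullback.snd a b)) fun j => ?_
  obtain ⟨P, p, q, hP, hsq⟩ := hpb (π i.1 ≫ a) (σ j.1 ≫ b) (hF _) (hG _) hK
  have h₁ := (IsPullback.of_hasPullback (pullback.fst a b) (π i.1)).flip.paste_vert (IsPullback.of_hasPullback a b)
  have h₂ := (IsPullback.of_hasPullback (pullback.fst (pullback.fst a b) (π i.1) ≫ pullback.snd a b) (σ j.1)).paste_horiz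
    h₁
  exact isQC_of_iso (hsq.isoIsPullback _ _ h₂) (hqc P hP)

/-- In an algebraic topos every morphism out of a generator is quasi-separated. -/
theorem isQSHom_of_generator {S : Set (Sh J)} (hqc : ∀ K ∈ S, IsQC K) (hgen : IsGenerating S)
    (heq : ClosedUnderEqualizers S) {K Y : Sh J} (hK : K ∈ S) (c : K ⟶ Y) : IsQSHom c := by
  intro T b hT
  obtain ⟨ι, F, π, hF, hπ⟩ := hgen T
  obtain ⟨s, hs⟩ := (isQC_iff T).1 hT ι F π hπ
  refine isQC_of_finite _ (hs.base' (pullback.snd (pullback.diagonal c) b)) fun i => ?_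
  obtain ⟨P, e, w, hP, ⟨hl⟩⟩ := heq (π i.1 ≫ b ≫ pullback.fst c c) (π i.1 ≫ b ≫ pullback.snd c c) (hF _) hK
  have h₁ := (IsPullback.of_hasPullback (pullback.snd (pullback.diagonal c) b) (π i.1)).flip.paste_vert
    (IsPullback.of_hasPullback (pullback.diagonal c) b).flip
  have h₂ : IsPullback e (e ≫ π i.1 ≫ b ≫ pullback.fst c c) (π i.1 ≫ b) (pullback.diagonal c) := by
    refine ⟨⟨?_⟩, ⟨PullbackCone.IsLimit.mk _ (fun d => hl.lift (Fork.ofι d.fst ?_)) (fun d => Fork.IsLimit.lift_ι hl) (fun d => ?_)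
      (fun d m h₁ h₂ => Fork.IsLimit.hom_ext hl (h₁.trans (Fork.IsLimit.lift_ι (t := Fork.ofι d.fst _) hl).symm))⟩⟩
    · apply pullback.hom_ext <;> simp [w]
    · have h₁ := d.condition =≫ pullback.fst c c
      have h₂ := d.condition =≫ pullback.snd c c
      simp at h₁ h₂
      exact h₁.trans h₂.symm
    · have h₁ := d.condition =≫ pullback.fst c c
      simp at h₁
      refine Eq.trans ?_ h₁
      rw [← Category.assoc]
      exact congrArg (· ≫ π i.1 ≫ b ≫ pullback.fst c c) (Fork.IsLimit.lift_ι hl)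
  exact isQC_of_iso (h₂.isoIsPullback _ _ h₁) (hqc P hP)

/-- In an algebraic topos morphisms out of quasi-separated objects are quasi-separated. -/
theorem isQSHom_of_isQS_of_algebraic (hE : IsAlgebraic J) {X Y : Sh J} (f : X ⟶ Y) (hX : IsQS X) :
    IsQSHom f := by
  obtain ⟨S, hqc, hgen, hpb, heq⟩ := hE
  obtain ⟨ι, F, π, hF, hπ⟩ := hgen X
  exact isQSHom_of_cover (qcGen_of_generating hqc hgen) f hπ
    (fun i => isQCHom_of_isQS _ (hqc _ (hF i)) hX) fun i => isQSHom_of_generator hqc hgen heq (hF i) _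

/-- Morphisms of a quasi-separated object with quasi-separated fibre products of a covering. -/
theorem isQSHom_of_qs_products (hE : HasQCGenerators J) {X Y : Sh J} (f : X ⟶ Y) {ι : Type u} {F : ι → Sh J}
    {g : ∀ i, F i ⟶ X} (hg : EF g) (hqc : ∀ i, IsQC (F i))
    (hqs : ∀ i j, IsQS (pullback (g i ≫ f) (g j ≫ f))) (hX : IsQS X) : IsQSHom f :=
  IsQCHom.of_local hE (pullback.diagonal f) (EF.prod hg f) _ _
    (fun p => isPullback_diag_map (g p.1) (g p.2) f)
    fun p => isQCHom_of_isQS _ (hX _ _ _ _ (hqc p.1) (hqc p.2)) (hqs p.1 p.2)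

/-- Quasi-separatedness is local on the target. -/
theorem IsQSHom.of_local (hE : HasQCGenerators J) {X Y : Sh J} (f : X ⟶ Y) {ι : Type u} {F : ι → Sh J}
    {g : ∀ i, F i ⟶ Y} (hg : EF g) (h : ∀ i, IsQSHom (pullback.snd f (g i))) : IsQSHom f := by
  let m := fun i => pullback.map (pullback.snd f (g i)) (pullback.snd f (g i)) f f (pullback.fst f (g i)) (pullback.fst f (g i)) (g i)
    pullback.condition.symm pullback.condition.symm
  refine IsQCHom.of_local hE (pullback.diagonal f) (g := m) ?_ _ _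
    (fun i => isPullback_diagonal (IsPullback.of_hasPullback f (g i))) h
  refine (hg.base' (pullback.fst f f ≫ f)).of_factor fun i => ⟨i, ?_⟩
  refine ⟨pullback.lift
    (pullback.lift (pullback.fst (pullback.fst f f ≫ f) (g i) ≫ pullback.fst f f) (pullback.snd _ (g i)) ?_)
    (pullback.lift (pullback.fst (pullback.fst f f ≫ f) (g i) ≫ pullback.snd f f) (pullback.snd _ (g i)) ?_) ?_, ?_⟩
  · rw [Category.assoc]; exact pullback.condition
  · rw [Category.assoc, ← pullback.condition (f := f) (g := f)]; exact pullback.condition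
  · rw [pullback.lift_snd, pullback.lift_snd]
  · apply pullback.hom_ext <;> simp [m]

section functor

variable {D : Type u} [SmallCategory D] {K : GrothendieckTopology D}
  {Φ : Sh J ⥤ Sh K} {R : Sh K ⥤ Sh J}

lemma EF.map (adj : Φ ⊣ R) {ι : Type*} {X : Sh J} {F : ι → Sh J} {π : ∀ i, F i ⟶ X} (h : EF π) :
    EF fun i => Φ.map (π i) := fun Z a b e => by
  apply (adj.homEquiv X Z).injective
  refine h _ _ _ fun i => ?_
  rw [← Adjunction.homEquiv_naturality_left, ← Adjunction.homEquiv_naturality_left, e i]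

/-- An inverse image functor taking coherent generators to coherent objects is coherent. -/
theorem isCoherentFunctor_of_generators (adj : Φ ⊣ R) [PreservesFiniteLimits Φ] (hE' : HasQCGenerators K)
    (S : Set (Sh J)) (hS : ∀ X ∈ S, IsCoherent X) (hgen : IsGenerating S)
    (h : ∀ X ∈ S, IsCoherent (Φ.obj X)) :
    (∀ X : Sh J, IsQC X → IsQC (Φ.obj X)) ∧ (∀ X : Sh J, IsQS X → IsQS (Φ.obj X)) := by
  have hqc : ∀ X : Sh J, IsQC X → IsQC (Φ.obj X) := fun X hX => by
    obtain ⟨ι, G, π, hG, hπ⟩ := hgen X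
    obtain ⟨s, hs⟩ := (isQC_iff X).1 hX ι G π hπ
    exact isQC_of_finite (fun i : s => Φ.map (π i)) (EF.map adj hs) fun i => (h _ (hG i)).1
  refine ⟨hqc, fun X hX => ?_⟩
  obtain ⟨ι, G, π, hG, hπ⟩ := hgen X
  refine isQS_of_cover hE' (EF.map adj hπ) (fun i => (h _ (hG i)).2)
    (isQCHom_of_cover_qc hE' (EF.map adj hπ) (fun i => h _ (hG i)) fun i j => ?_)
  exact isQC_of_iso ((IsPullback.of_hasPullback (π i) (π j)).map Φ).isoPullback
    (hqc _ (hX _ _ _ _ (hS _ (hG i)).1 (hS _ (hG j)).1))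

end functor

end ToposFinLib
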