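/-
Quasi-compactness on the site and in the topos.
-/
import Groth.Agent.ToposFinLib.Basic
import Groth.Agent.TopLib.LexAdjoint

set_option autoImplicit false
set_option linter.style.haveILetI false
set_option linter.deprecated false

universe u

open CategoryTheory Limits Opposite ToposFin

namespace ToposFinLib

variable {C : Type u} [SmallCategory C] (J : GrothendieckTopology C)

theorem isQCSite_iff (X : C) : IsQCSite J X ↔ IsQC (eps J X) := by
  classical
  let η := toSheafify J (yoneda.obj X)
  let t : (eps J X).obj.obj (op X) := η.app (op X) (𝟙 X)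
  have hη : ∀ {V : C} (v : V ⟶ X), (eps J X).obj.map v.op t = η.app (op V) v := fun {V} v => by
    refine (ConcreteCategory.congr_hom (η.naturality v.op) (𝟙 X)).symm.trans ?_
    exact congrArg (η.app (op V)) (Category.comp_id v)
  constructor
  · intro h
    rw [isQC_iff]
    intro ι F π hπ
    obtain ⟨n, V, g, hg, hcov⟩ := h _ ((ef_iff_local π).1 hπ X t)
    choose i x hx using hg
    refine ⟨Finset.univ.image i, fun Z a b e => ?_⟩
    apply ((sheafificationAdjunction J (Type u)).homEquiv _ _).injective
    apply yonedaEquiv.injective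
    show a.hom.app (op X) t = b.hom.app (op X) t
    refine (((isSheaf_iff_isSheaf_of_type J _).1 Z.property) _ hcov).isSeparatedFor.ext ?_
    rintro W w ⟨_, m, _, ⟨k⟩, rfl⟩
    have hk : ∀ c : eps J X ⟶ Z, Z.obj.map (m ≫ g k).op (c.hom.app (op X) t) =
        Z.obj.map m.op ((π (i k) ≫ c).hom.app (op (V k)) (x k)) := fun c => by
      rw [op_comp, FunctorToTypes.map_comp_apply]
      refine congrArg _ (((ConcreteCategory.congr_hom (c.hom.naturality (g k).op) t).symm).trans ?_)
      exact congrArg (c.hom.app (op (V k))) (hx k).symm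
    rw [hk a, hk b, e ⟨i k, Finset.mem_image_of_mem i (Finset.mem_univ k)⟩]
  · intro h S hS
    obtain ⟨s, hs⟩ := (isQC_iff _).1 h _ _ _ (TopLib.epiFamily_cover (J := J) S hS)
    let e := s.equivFin.symm
    refine ⟨s.card, fun k => (e k).1.1, fun k => (e k).1.2.1, fun k => (e k).1.2.2, ?_⟩
    let T := Sieve.ofArrows (fun k => (e k).1.1) (fun k => (e k).1.2.1)
    refine J.transitive ((ef_iff_local _).1 hs X t) T ?_
    rintro W w ⟨i, x, hx⟩
    refine J.transitive (Presheaf.imageSieve_mem J (toSheafify J (yoneda.obj i.1.1)) x) _ ?_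
    rintro V v ⟨h', hh'⟩
    have key : η.app (op V) (h' ≫ i.1.2.1) = η.app (op V) (v ≫ w) := by
      have h₁ := ConcreteCategory.congr_hom (NatTrans.congr_app (toSheafify_naturality J (yoneda.map i.1.2.1)) (op V)) h'
      refine h₁.trans ?_
      rw [← hη (v ≫ w), op_comp, FunctorToTypes.map_comp_apply, ← hx]
      show ((presheafToSheaf J (Type u)).map (yoneda.map i.1.2.1)).hom.app (op V)
        ((toSheafify J (yoneda.obj i.1.1)).app (op V) h') = _
      rw [hh']
      exact ConcreteCategory.congr_hom
        (((presheafToSheaf J (Type u)).map (yoneda.map i.1.2.1)).hom.naturality v.op) x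
    let x₁ : (yoneda.obj X).obj (op V) := h' ≫ i.1.2.1
    let x₂ : (yoneda.obj X).obj (op V) := v ≫ w
    refine J.superset_covering ?_ (Presheaf.equalizerSieve_mem J η x₁ x₂ key)
    intro V' r (hr : r ≫ h' ≫ i.1.2.1 = r ≫ v ≫ w)
    show T ((r ≫ v) ≫ w)
    have hmem : T i.1.2.1 := by
      have := Sieve.ofArrows_mk (fun k => (e k).1.1) (fun k => (e k).1.2.1) (s.equivFin i)
      have he : e (s.equivFin i) = i := s.equivFin.symm_apply_apply i
      simp only [T] at this ⊢
      rw [he] at this
      exact this
    rw [Category.assoc, ← hr, ← Category.assoc]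
    exact T.downward_closed hmem _

end ToposFinLib
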