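/-
Sheafified representables on a site of quasi-compact objects.
-/
import Groth.Agent.ToposFinLib.Criteria
import Groth.Agent.ToposFinLib.Site

set_option autoImplicit false
set_option linter.style.haveILetI false
set_option linter.deprecated false

universe u

open CategoryTheory Limits Opposite ToposFin

namespace ToposFinLib

variable {C : Type u} [SmallCategory C] (J : GrothendieckTopology C)

/-- Morphisms out of a sheafified representable are sections. -/
noncomputable def epsEquiv (V : C) (T : Sh J) : (eps J V ⟶ T) ≃ T.obj.obj (op V) :=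
  ((sheafificationAdjunction J (Type u)).homEquiv _ _).trans yonedaEquiv

lemma epsEquiv_comp (V : C) {S T : Sh J} (h : eps J V ⟶ S) (k : S ⟶ T) :
    epsEquiv J V T (h ≫ k) = k.hom.app _ (epsEquiv J V S h) := by
  simp only [epsEquiv, Equiv.trans_apply, Adjunction.homEquiv_naturality_right]
  exact yonedaEquiv_comp _ _

lemma epsEquiv_map {V W : C} (g : W ⟶ V) (T : Sh J) (h : eps J V ⟶ T) :
    epsEquiv J W T ((presheafToSheaf J (Type u)).map (yoneda.map g) ≫ h) = T.obj.map g.op (epsEquiv J V T h) := by
  simp only [epsEquiv, Equiv.trans_apply, Adjunction.homEquiv_naturality_left]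
  exact (yonedaEquiv_naturality _ _).symm

lemma epsEquiv_epsMap {V W : C} (g : W ⟶ V) :
    epsEquiv J W (eps J V) ((presheafToSheaf J (Type u)).map (yoneda.map g)) =
      (toSheafify J (yoneda.obj V)).app (op W) g := by
  simp only [epsEquiv, Equiv.trans_apply, Adjunction.homEquiv_unit]
  have := toSheafify_naturality J (yoneda.map g)
  refine (congrArg yonedaEquiv this.symm).trans ?_
  rw [yonedaEquiv_comp]
  exact congrArg ((toSheafify J (yoneda.obj V)).app (op W)) (yonedaEquiv_yoneda_map g)

/-- The sheafified representables generate. -/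
theorem eps_ef (X : Sh J) :
    EF fun p : Σ V : C, X.obj.obj (op V) => (epsEquiv J p.1 X).symm p.2 := fun Z a b e => by
  ext V y
  have h := congrArg (epsEquiv J V.unop Z) (e ⟨V.unop, y⟩)
  rw [epsEquiv_comp, epsEquiv_comp, Equiv.apply_symm_apply] at h
  exact h

lemma eps_generating : IsGenerating (Set.range fun V : C => eps J V) := fun X =>
  ⟨Σ V : C, X.obj.obj (op V), fun p => eps J p.1, fun p => (epsEquiv J p.1 X).symm p.2,
    fun p => ⟨p.1, rfl⟩, eps_ef J X⟩

variable {J} (hC : ∀ X : C, IsQCSite J X)

include hC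

lemma isQC_eps (X : C) : IsQC (eps J X) := (isQCSite_iff J X).1 (hC X)

lemma hasQCGenerators : HasQCGenerators J :=
  qcGen_of_generating (by rintro _ ⟨V, rfl⟩; exact isQC_eps hC V) (eps_generating J)

/-- Locally a morphism of sheafified representables comes from the site. -/
theorem exists_local_rep {V X : C} (t : eps J V ⟶ eps J X) :
    ∃ (n : ℕ) (W : Fin n → C) (g : ∀ k, W k ⟶ V) (f : ∀ k, W k ⟶ X),
      EF (fun k => (presheafToSheaf J (Type u)).map (yoneda.map (g k))) ∧
        ∀ k, (presheafToSheaf J (Type u)).map (yoneda.map (g k)) ≫ t =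
          (presheafToSheaf J (Type u)).map (yoneda.map (f k)) := by
  obtain ⟨n, W, g, hg, hcov⟩ := hC V _
    (Presheaf.imageSieve_mem J (toSheafify J (yoneda.obj X)) (U := op V) (epsEquiv J V _ t))
  choose f hf using hg
  refine ⟨n, W, g, f, ?_, fun k => (epsEquiv J (W k) _).injective ?_⟩
  · refine EF.of_factor (TopLib.epiFamily_cover (J := J) _ hcov) ?_
    rintro ⟨U, w, _, m, _, ⟨k⟩, rfl⟩
    exact ⟨k, (presheafToSheaf J (Type u)).map (yoneda.map m), by
      rw [← Functor.map_comp, ← Functor.map_comp]⟩
  · rw [epsEquiv_map, epsEquiv_epsMap]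
    exact (hf k).symm

variable [HasPullbacks C]

/-- Sheafified representables are coherent. -/
theorem isCoherent_eps (X : C) : IsCoherent (eps J X) := by
  refine ⟨isQC_eps hC X, fun A B a b hA hB => ?_⟩
  have key : ∀ {V W : C} (s : eps J V ⟶ eps J X) (t : eps J W ⟶ eps J X), IsQC (pullback s t) := by
    intro V W s t
    obtain ⟨n, V', g, f, hg, hgf⟩ := exists_local_rep hC s
    obtain ⟨m, W', g', f', hg', hgf'⟩ := exists_local_rep hC t
    refine isQC_of_finite _ (hg.base' (pullback.fst s t)) fun i => ?_
    refine isQC_of_finite _ (hg'.base' (pullback.fst (pullback.fst s t) _ ≫ pullback.snd s t)) fun j => ?_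
    have h₁ := (IsPullback.of_hasPullback (pullback.fst s t)
      ((presheafToSheaf J (Type u)).map (yoneda.map (g i)))).flip.paste_vert (IsPullback.of_hasPullback s t)
    have h₂ := (IsPullback.of_hasPullback (pullback.fst (pullback.fst s t)
      ((presheafToSheaf J (Type u)).map (yoneda.map (g i))) ≫ pullback.snd s t)
      ((presheafToSheaf J (Type u)).map (yoneda.map (g' j)))).paste_horiz h₁
    have h₃ := (IsPullback.of_hasPullback (f i) (f' j)).map (yoneda ⋙ presheafToSheaf J (Type u))
    rw [hgf, hgf'] at h₂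
    exact isQC_of_iso (h₃.isoIsPullback _ _ h₂) (isQC_eps hC _)
  obtain ⟨s, hs⟩ := (isQC_iff A).1 hA _ _ _ (eps_ef J A)
  obtain ⟨t, ht⟩ := (isQC_iff B).1 hB _ _ _ (eps_ef J B)
  refine isQC_of_finite _ (hs.base' (pullback.fst a b)) fun i => ?_
  refine isQC_of_finite _ (ht.base' (pullback.fst (pullback.fst a b) _ ≫ pullback.snd a b)) fun j => ?_
  have h₁ := (IsPullback.of_hasPullback (pullback.fst a b)
    ((epsEquiv J i.1.1 A).symm i.1.2)).flip.paste_vert (IsPullback.of_hasPullback a b)
  have h₂ := (IsPullback.of_hasPullback (pullback.fst (pullback.fst a b)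
    ((epsEquiv J i.1.1 A).symm i.1.2) ≫ pullback.snd a b) ((epsEquiv J j.1.1 B).symm j.1.2)).paste_horiz h₁
  exact isQC_of_isPullback h₂ (key _ _)

/-- Morphisms of sheafified representables are quasi-separated. -/
theorem isQSHom_eps {V X : C} (t : eps J V ⟶ eps J X) : IsQSHom t := by
  have rep : ∀ {W Y : C} (f : W ⟶ Y), IsQSHom ((presheafToSheaf J (Type u)).map (yoneda.map f)) := by
    intro W Y f
    let F := yoneda ⋙ presheafToSheaf J (Type u)
    have hp := (IsPullback.of_hasPullback f f).map F
    have e : pullback.diagonal (F.map f) = F.map (pullback.diagonal f) ≫ hp.isoPullback.hom := by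
      apply pullback.hom_ext <;> simp [← Functor.map_comp]
    show IsQCHom (pullback.diagonal (F.map f))
    rw [e]
    exact IsQCHom.comp (isQCHom_of_isQS _ (isQC_eps hC W) (isCoherent_eps hC _).2) (IsQCHom.of_isIso _)
  obtain ⟨n, W, g, f, hg, hgf⟩ := exists_local_rep hC t
  refine isQSHom_of_cover (hasQCGenerators hC) t (g := fun k : ULift.{u} (Fin n) =>
      (presheafToSheaf J (Type u)).map (yoneda.map (g k.down))) (fun Z a b e => hg Z a b fun k => e ⟨k⟩)
    (fun k => isQCHom_of_isQS _ (isQC_eps hC _) (isCoherent_eps hC _).2) fun k => ?_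
  rw [hgf]
  exact rep _

/-- Morphisms from quasi-separated objects to sheafified representables are quasi-separated. -/
theorem isQSHom_to_eps {G : Sh J} {X : C} (g : G ⟶ eps J X) (hG : IsQS G) : IsQSHom g :=
  isQSHom_of_cover (hasQCGenerators hC) g (eps_ef J G)
    (fun _ => isQCHom_of_isQS _ (isQC_eps hC _) hG) fun _ => isQSHom_eps hC _

end ToposFinLib
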