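/-
Filtered colimits in a topos of sheaves and maps out of quasi-compact objects.
-/
import Groth.Agent.ToposFinLib.EpsGen
import Mathlib.CategoryTheory.Sites.Limits
import Mathlib.CategoryTheory.Limits.Types.Filtered

set_option autoImplicit false
set_option linter.style.haveILetI false
set_option linter.deprecated false

universe u

open CategoryTheory Limits Opposite ToposFin

namespace ToposFinLib

variable {C : Type u} [SmallCategory C] {J : GrothendieckTopology C}

/-- Sections of a separated descent problem glue. -/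
theorem EF.glue {ι : Type*} {X T : Sh J} {F : ι → Sh J} {w : ∀ k, F k ⟶ X} (hw : EF w) (s : ∀ k, F k ⟶ T)
    (h : ∀ k l, pullback.fst (w k) (w l) ≫ s k = pullback.snd (w k) (w l) ≫ s l) :
    ∃ t : X ⟶ T, ∀ k, w k ≫ t = s k := by
  classical
  have hT : Presieve.IsSheaf J T.obj := (isSheaf_iff_isSheaf_of_type J _).1 T.property
  -- values on local sections
  have indep : ∀ {V : C} (k l : ι) (a : (F k).obj.obj (op V)) (b : (F l).obj.obj (op V)),
      (w k).hom.app _ a = (w l).hom.app _ b → (s k).hom.app _ a = (s l).hom.app _ b := by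
    intro V k l a b e
    have hc : (epsEquiv J V _).symm a ≫ w k = (epsEquiv J V _).symm b ≫ w l := by
      apply (epsEquiv J V X).injective
      rw [epsEquiv_comp, epsEquiv_comp, Equiv.apply_symm_apply, Equiv.apply_symm_apply, e]
    have := congrArg (epsEquiv J V T) ((pullback.lift _ _ hc) ≫= h k l)
    rwa [pullback.lift_fst_assoc, pullback.lift_snd_assoc, epsEquiv_comp, epsEquiv_comp,
      Equiv.apply_symm_apply, Equiv.apply_symm_apply] at this
  rw [ef_iff_local] at hw
  have key : ∀ (U : Cᵒᵖ) (y : X.obj.obj U), ∃ z : T.obj.obj U, ∀ (V : C) (f : V ⟶ U.unop) (k : ι)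
      (a : (F k).obj.obj (op V)), (w k).hom.app _ a = X.obj.map f.op y → (s k).hom.app _ a = T.obj.map f.op z := by
    intro U y
    let x : Presieve.FamilyOfElements T.obj (imgSieve w (U := U.unop) y).arrows := fun V f hf =>
      (s hf.choose).hom.app _ hf.choose_spec.choose
    have hx : x.Compatible := by
      intro V₁ V₂ Z g₁ g₂ f₁ f₂ h₁ h₂ e
      rw [← NatTrans.naturality_apply, ← NatTrans.naturality_apply]
      refine indep _ _ _ _ ?_
      rw [NatTrans.naturality_apply, NatTrans.naturality_apply, h₁.choose_spec.choose_spec,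
        h₂.choose_spec.choose_spec, ← FunctorToTypes.map_comp_apply, ← FunctorToTypes.map_comp_apply,
        ← op_comp, ← op_comp, e]
    refine ⟨(hT _ (hw U.unop y)).amalgamate x hx, fun V f k a ha => ?_⟩
    have hf : imgSieve w (U := U.unop) y f := ⟨k, a, ha⟩
    rw [(hT _ (hw U.unop y)).valid_glue hx f hf]
    exact indep _ _ _ _ (ha.trans hf.choose_spec.choose_spec.symm)
  choose z hz using key
  refine ⟨⟨{ app := fun U => ↾(z U), naturality := ?_ }⟩, fun k => ?_⟩
  · intro U U' f
    ext y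
    refine (hT _ (hw U'.unop (X.obj.map f y))).isSeparatedFor.ext fun V g hg => ?_
    obtain ⟨k, a, ha⟩ := hg
    refine (hz U' _ V g k a ha).symm.trans ?_
    change _ = T.obj.map g.op (T.obj.map f (z U y))
    rw [← FunctorToTypes.map_comp_apply]
    refine hz U y V (g ≫ f.unop) k a (ha.trans ?_)
    rw [op_comp, FunctorToTypes.map_comp_apply]
    rfl
  · ext U a
    have := hz U ((w k).hom.app _ a) U.unop (𝟙 _) k a (by simp)
    simpa using this.symm

section FiltCol

variable {I : Type u} [SmallCategory I] [IsFiltered I] {D : I ⥤ Sh J} {c : Cocone D}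

omit [IsFiltered I] in
/-- The injections of a colimit are jointly epimorphic. -/
lemma ef_colimit (hc : IsColimit c) : EF fun i => c.ι.app i := fun _ _ _ e => hc.hom_ext e

/-- Sections which agree in a filtered colimit of sheaves agree locally at some stage. -/
theorem local_eq (hc : IsColimit c) {i : I} {U : C} (s s' : (D.obj i).obj.obj (op U))
    (h : (c.ι.app i).hom.app _ s = (c.ι.app i).hom.app _ s') :
    ∃ R ∈ J U, ∀ (V : C) (f : V ⟶ U), R f → ∃ (j : I) (φ : i ⟶ j),
      (D.map φ).hom.app _ ((D.obj i).obj.map f.op s) = (D.map φ).hom.app _ ((D.obj i).obj.map f.op s') := by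
  let E := colimit.cocone (D ⋙ sheafToPresheaf J (Type u))
  let e := hc.coconePointUniqueUpToIso (Sheaf.isColimitSheafifyCocone E (colimit.isColimit _))
  have he : ∀ t : (D.obj i).obj.obj (op U), e.hom.hom.app _ ((c.ι.app i).hom.app _ t) =
      (toSheafify J E.pt).app _ ((E.ι.app i).app _ t) := fun t => by
    have h₁ := hc.comp_coconePointUniqueUpToIso_hom (Sheaf.isColimitSheafifyCocone E (colimit.isColimit _)) i
    refine (ConcreteCategory.congr_hom (NatTrans.congr_app (congrArg (fun m => m.hom) h₁) (op U)) t).trans ?_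
    exact ConcreteCategory.congr_hom (NatTrans.congr_app (Sheaf.sheafifyCocone_ι_app_val E i) (op U)) t
  refine ⟨_, Presheaf.equalizerSieve_mem J (toSheafify J E.pt) ((E.ι.app i).app _ s) ((E.ι.app i).app _ s')
    (by rw [← he, ← he, h]), fun V f hf => ?_⟩
  simp only [Presheaf.equalizerSieve_apply] at hf
  rw [← NatTrans.naturality_apply, ← NatTrans.naturality_apply] at hf
  obtain ⟨j, φ, hj⟩ := (Types.FilteredColimit.isColimit_eq_iff'
    (isColimitOfPreserves ((evaluation Cᵒᵖ (Type u)).obj (op V)) (colimit.isColimit (D ⋙ sheafToPresheaf J (Type u)))) _ _).1 hf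
  exact ⟨j, φ, hj⟩

/-- A common bound for finitely many eventual conditions. -/
lemma exists_common {κ : Type*} [Finite κ] {i : I} (P : κ → ∀ j : I, (i ⟶ j) → Prop)
    (h : ∀ k, ∃ j φ, P k j φ) (up : ∀ k j (φ : i ⟶ j) j' (ψ : j ⟶ j'), P k j φ → P k j' (φ ≫ ψ)) :
    ∃ (j : I) (φ : i ⟶ j), ∀ k, P k j φ := by
  classical
  haveI := Fintype.ofFinite κ
  suffices ∀ t : Finset κ, ∃ (j : I) (φ : i ⟶ j), ∀ k ∈ t, P k j φ by
    obtain ⟨j, φ, hj⟩ := this Finset.univ
    exact ⟨j, φ, fun k => hj k (Finset.mem_univ k)⟩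
  intro t
  induction t using Finset.induction with
  | empty => exact ⟨i, 𝟙 i, by simp⟩
  | insert k t hk ih =>
    obtain ⟨j, φ, hj⟩ := ih
    obtain ⟨j', φ', hj'⟩ := h k
    obtain ⟨l, p, q, e⟩ := IsFiltered.span φ φ'
    refine ⟨l, φ ≫ p, fun k' hk' => ?_⟩
    rcases Finset.mem_insert.1 hk' with rfl | hk'
    · rw [e]; exact up _ _ _ _ _ hj'
    · exact up _ _ _ _ _ (hj k' hk')

/-- Maps from a quasi-compact object which agree in a filtered colimit agree at some stage. -/
theorem eq_of_isQC (hc : IsColimit c) {X : Sh J} (hX : IsQC X) {i : I} (s s' : X ⟶ D.obj i)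
    (h : s ≫ c.ι.app i = s' ≫ c.ι.app i) : ∃ (j : I) (φ : i ⟶ j), s ≫ D.map φ = s' ≫ D.map φ := by
  let e := fun p : Σ j, (i ⟶ j) => equalizer.ι (s ≫ D.map p.2) (s' ≫ D.map p.2)
  have he : EF e := by
    rw [ef_iff_local]
    intro U y
    obtain ⟨R, hR, hR'⟩ := local_eq hc (s.hom.app _ y) (s'.hom.app _ y)
      (ConcreteCategory.congr_hom (NatTrans.congr_app (congrArg (fun m => m.hom) h) (op U)) y)
    refine J.superset_covering (fun V f hf => ?_) hR
    obtain ⟨j, φ, hj⟩ := hR' V f hf
    let t := (epsEquiv J V X).symm (X.obj.map f.op y)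
    have ht : t ≫ s ≫ D.map φ = t ≫ s' ≫ D.map φ := by
      apply (epsEquiv J V _).injective
      simp only [t, ← Category.assoc, epsEquiv_comp, Equiv.apply_symm_apply, NatTrans.naturality_apply]
      simpa only [NatTrans.naturality_apply] using hj
    refine ⟨⟨j, φ⟩, epsEquiv J V _ (equalizer.lift t ht), ?_⟩
    rw [← epsEquiv_comp, equalizer.lift_ι, Equiv.apply_symm_apply]
  obtain ⟨σ, hσ⟩ := (isQC_iff X).1 hX _ _ e he
  obtain ⟨m, ψ, hm⟩ := exists_common (κ := σ) (fun k m ψ => ∃ χ : k.1.1 ⟶ m, k.1.2 ≫ χ = ψ)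
    (fun k => ⟨k.1.1, k.1.2, 𝟙 _, Category.comp_id _⟩)
    (fun k j φ j' ψ ⟨χ, hχ⟩ => ⟨χ ≫ ψ, by rw [← Category.assoc, hχ]⟩)
  refine ⟨m, ψ, hσ _ _ _ fun k => ?_⟩
  obtain ⟨χ, hχ⟩ := hm k
  have q := equalizer.condition (s ≫ D.map k.1.2) (s' ≫ D.map k.1.2) =≫ D.map χ
  simp only [Category.assoc] at q
  rw [← hχ, D.map_comp]
  exact q

/-- Maps from a coherent object to a filtered colimit come from some stage. -/
theorem exists_lift_of_coherent (hE : HasQCGenerators J) (hc : IsColimit c) {X : Sh J} (hX : IsCoherent X)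
    (t : X ⟶ c.pt) : ∃ (i : I) (s : X ⟶ D.obj i), s ≫ c.ι.app i = t := by
  classical
  obtain ⟨κ, _, W, w, hw, hW⟩ := exists_finite_cover hE hX.1 ((ef_colimit hc).base' t)
  choose hWqc i₀ m hm using hW
  haveI := Fintype.ofFinite κ
  obtain ⟨i, hi⟩ := IsFiltered.sup_objs_exists (Finset.univ.image i₀)
  let ψ : ∀ k, i₀ k ⟶ i := fun k => (hi (Finset.mem_image_of_mem i₀ (Finset.mem_univ k))).some
  let s : ∀ k, W k ⟶ D.obj i := fun k => m k ≫ pullback.snd t (c.ι.app (i₀ k)) ≫ D.map (ψ k)
  have hs : ∀ k, s k ≫ c.ι.app i = w k ≫ t := fun k => by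
    simp only [s, Category.assoc, Cocone.w]
    rw [← pullback.condition, ← Category.assoc, hm]
  obtain ⟨j, φ, hφ⟩ := exists_common (κ := κ × κ)
    (fun p j φ => pullback.fst (w p.1) (w p.2) ≫ s p.1 ≫ D.map φ = pullback.snd (w p.1) (w p.2) ≫ s p.2 ≫ D.map φ)
    (fun p => by
      obtain ⟨j, φ, h⟩ := eq_of_isQC hc (hX.2 _ _ (w p.1) (w p.2) (hWqc p.1) (hWqc p.2))
        (pullback.fst (w p.1) (w p.2) ≫ s p.1) (pullback.snd (w p.1) (w p.2) ≫ s p.2)
        (by simp only [Category.assoc, hs, pullback.condition_assoc])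
      exact ⟨j, φ, by simpa using h⟩)
    (fun p j φ j' ψ h => by simpa using h =≫ D.map ψ)
  obtain ⟨r, hr⟩ := hw.glue (fun k => s k ≫ D.map φ) fun k l => hφ (k, l)
  refine ⟨j, r, hw _ _ _ fun k => ?_⟩
  rw [← Category.assoc, hr, Category.assoc, Cocone.w, hs]

end FiltCol

lemma post_apply {I : Type u} [SmallCategory I] (D : I ⥤ Sh J) (X : Sh J) (i : I) (s : X ⟶ D.obj i) :
    colimit.post D (coyoneda.obj (op X)) (colimit.ι (D ⋙ coyoneda.obj (op X)) i s) = s ≫ colimit.ι D i :=
  ConcreteCategory.congr_hom (colimit.ι_post D (coyoneda.obj (op X)) i) s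

/-- `Hom` out of a quasi-compact object is injective on filtered colimits. -/
theorem post_injective_of_isQC {X : Sh J} (hX : IsQC X) (I : Type u) [SmallCategory I] [IsFiltered I]
    (D : I ⥤ Sh J) : Function.Injective (colimit.post D (coyoneda.obj (op X))) := by
  intro a b h
  obtain ⟨i, a, rfl⟩ := Types.jointly_surjective_of_isColimit (colimit.isColimit _) a
  obtain ⟨j, b, rfl⟩ := Types.jointly_surjective_of_isColimit (colimit.isColimit _) b
  change colimit.post D (coyoneda.obj (op X)) (colimit.ι (D ⋙ coyoneda.obj (op X)) i a) =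
    colimit.post D (coyoneda.obj (op X)) (colimit.ι (D ⋙ coyoneda.obj (op X)) j b) at h
  rw [post_apply, post_apply, ← colimit.w D (IsFiltered.leftToMax i j), ← colimit.w D (IsFiltered.rightToMax i j),
    ← Category.assoc, ← Category.assoc] at h
  obtain ⟨m, φ, hm⟩ := eq_of_isQC (colimit.isColimit D) hX _ _ h
  refine (Types.FilteredColimit.isColimit_eq_iff _ (colimit.isColimit _)).2
    ⟨m, IsFiltered.leftToMax i j ≫ φ, IsFiltered.rightToMax i j ≫ φ, ?_⟩
  change a ≫ D.map _ = b ≫ D.map _
  rw [D.map_comp, D.map_comp]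
  simpa using hm

/-- `Hom` out of a coherent object commutes with filtered colimits. -/
theorem isFP_of_coherent (hE : HasQCGenerators J) {X : Sh J} (hX : IsCoherent X) : IsFP X := by
  intro I _ _ D
  refine ⟨post_injective_of_isQC hX.1 I D, fun t => ?_⟩
  obtain ⟨i, s, hs⟩ := exists_lift_of_coherent hE (colimit.isColimit D) hX t
  exact ⟨colimit.ι (D ⋙ coyoneda.obj (op X)) i s, (post_apply D X i s).trans hs⟩

/-- The quotient testing surjectivity of a finite part of a family. -/
noncomputable def pushFun {X : Sh J} {ι : Type u} {F : ι → Sh J} (π : ∀ a, F a ⟶ X) : Finset ι ⥤ Sh J where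
  obj t := pushout (Sigma.desc fun a : t => π a) (Sigma.desc fun a : t => π a)
  map {t t'} h := pushout.desc (pushout.inl _ _) (pushout.inr _ _) (Sigma.hom_ext _ _ fun a => by
    rw [Sigma.ι_desc_assoc, Sigma.ι_desc_assoc]
    have := Sigma.ι (fun b : t' => F b) ⟨a.1, leOfHom h a.2⟩ ≫=
      pushout.condition (f := Sigma.desc fun a : t' => π a) (g := Sigma.desc fun a : t' => π a)
    rwa [Sigma.ι_desc_assoc, Sigma.ι_desc_assoc] at this)
  map_id t := by apply pushout.hom_ext <;> simp [pushout.inl_desc, pushout.inr_desc, pushout.inl_desc_assoc, pushout.inr_desc_assoc]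
  map_comp f g := by apply pushout.hom_ext <;> simp [pushout.inl_desc, pushout.inr_desc, pushout.inl_desc_assoc, pushout.inr_desc_assoc]

/-- Quasi-compactness is detected by filtered colimits. -/
theorem isQC_of_post_injective {X : Sh J}
    (h : ∀ (I : Type u) [SmallCategory I] [IsFiltered I] (D : I ⥤ Sh J),
      Function.Injective (colimit.post D (coyoneda.obj (op X)))) : IsQC X := by
  classical
  intro ι F π hπ
  let D := pushFun π
  let p := fun t : Finset ι => Sigma.desc fun a : t => π a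
  have key : pushout.inl (p ∅) (p ∅) ≫ colimit.ι D ∅ = pushout.inr (p ∅) (p ∅) ≫ colimit.ι D ∅ := by
    refine (epi_desc_iff π).1 hπ _ _ _ fun a => ?_
    have e₁ : pushout.inl (p ∅) (p ∅) ≫ colimit.ι D ∅ = pushout.inl (p {a}) (p {a}) ≫ colimit.ι D {a} := by
      rw [← colimit.w D (homOfLE (Finset.empty_subset {a}))]
      simp [D, pushFun, p, pushout.inl_desc, pushout.inr_desc, pushout.inl_desc_assoc, pushout.inr_desc_assoc]
    have e₂ : pushout.inr (p ∅) (p ∅) ≫ colimit.ι D ∅ = pushout.inr (p {a}) (p {a}) ≫ colimit.ι D {a} := by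
      rw [← colimit.w D (homOfLE (Finset.empty_subset {a}))]
      simp [D, pushFun, p, pushout.inl_desc, pushout.inr_desc, pushout.inl_desc_assoc, pushout.inr_desc_assoc]
    have e₃ := Sigma.ι (fun b : ({a} : Finset ι) => F b) ⟨a, Finset.mem_singleton_self a⟩ ≫=
      pushout.condition (f := p {a}) (g := p {a})
    simp only [p, Sigma.ι_desc_assoc] at e₃
    rw [e₁, e₂, ← Category.assoc, ← Category.assoc, e₃]
  obtain ⟨t, f, g, e⟩ := (Types.FilteredColimit.isColimit_eq_iff _ (colimit.isColimit _)).1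
    (h (Finset ι) D (a₁ := colimit.ι (D ⋙ coyoneda.obj (op X)) ∅ (pushout.inl (p ∅) (p ∅)))
      (a₂ := colimit.ι (D ⋙ coyoneda.obj (op X)) ∅ (pushout.inr (p ∅) (p ∅)))
      (by rw [post_apply, post_apply]; exact key))
  refine ⟨t, ⟨fun {Z} u v huv => ?_⟩⟩
  have e' : pushout.inl (p t) (p t) = pushout.inr (p t) (p t) := by
    change pushout.inl (p ∅) (p ∅) ≫ D.map f = pushout.inr (p ∅) (p ∅) ≫ D.map g at e
    simpa [D, pushFun, p, pushout.inl_desc, pushout.inr_desc, pushout.inl_desc_assoc, pushout.inr_desc_assoc] using e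
  have := e' =≫ pushout.desc u v huv
  simpa [pushout.inl_desc, pushout.inr_desc, pushout.inl_desc_assoc, pushout.inr_desc_assoc] using this

end ToposFinLib
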