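/-
Finitely presentable objects and coequalizers of coherent objects.
-/
import Groth.Agent.ToposFinLib.FiltCol

set_option autoImplicit false
set_option linter.style.haveILetI false
set_option linter.deprecated false

universe u

open CategoryTheory Limits Opposite ToposFin

namespace ToposFinLib

variable {C : Type u} [SmallCategory C] {J : GrothendieckTopology C}

lemma qcGen_of_coherentGen (hE : HasCoherentGenerators J) : HasQCGenerators J := fun X => by
  obtain ⟨ι, F, π, hF, hπ⟩ := hE X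
  exact ⟨ι, F, π, fun i => (hF i).1, hπ⟩

/-- A finite coproduct of coherent objects is coherent. -/
theorem isCoherent_sigma (hE : HasQCGenerators J) {ι : Type u} [Finite ι] (F : ι → Sh J)
    (h : ∀ i, IsCoherent (F i)) : IsCoherent (∐ F) :=
  ⟨isQC_of_finite (Sigma.ι F) (fun _ _ _ e => Sigma.hom_ext _ _ e) fun i => (h i).1,
    isQS_of_cover hE (g := Sigma.ι F) (fun _ _ _ e => Sigma.hom_ext _ _ e) (fun i => (h i).2)
      fun i => isQCHom_inj (c := Cofan.mk (∐ F) (Sigma.ι F)) (coproductIsCoproduct F) i⟩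

lemma isCoherent_of_retract {X Q : Sh J} (i : X ⟶ Q) (p : Q ⟶ X) (e : i ≫ p = 𝟙 X) (h : IsCoherent Q) :
    IsCoherent X := by
  haveI : IsSplitEpi p := IsSplitEpi.mk' ⟨i, e⟩
  haveI : IsSplitMono i := IsSplitMono.mk' ⟨p, e⟩
  exact ⟨isQC_of_finite (κ := PUnit.{1}) (fun _ => p) (fun Z a b hab => (cancel_epi p).1 (hab ⟨⟩)) fun _ => h.1,
    IsQS.of_hom i (IsQSHom.of_mono i) h.2⟩

lemma exists_rep_of_fp {X : Sh J} (hX : IsFP X) {I : Type u} [SmallCategory I] [IsFiltered I] (D : I ⥤ Sh J)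
    (t : X ⟶ colimit D) : ∃ (i : I) (s : X ⟶ D.obj i), s ≫ colimit.ι D i = t := by
  obtain ⟨a, ha⟩ := (hX I D).2 t
  obtain ⟨i, s, rfl⟩ := Types.jointly_surjective_of_isColimit (colimit.isColimit _) a
  exact ⟨i, s, (post_apply D X i s).symm.trans ha⟩

lemma eq_of_fp {X : Sh J} (hX : IsFP X) {I : Type u} [SmallCategory I] [IsFiltered I] (D : I ⥤ Sh J) {i : I}
    (s s' : X ⟶ D.obj i) (h : s ≫ colimit.ι D i = s' ≫ colimit.ι D i) :
    ∃ (j : I) (φ : i ⟶ j), s ≫ D.map φ = s' ≫ D.map φ :=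
  (Types.FilteredColimit.isColimit_eq_iff' (colimit.isColimit _) s s').1
    ((hX I D).1 ((post_apply D X i s).trans (h.trans (post_apply D X i s').symm)))

lemma isFP_intro {X : Sh J} (hqc : ∀ (I : Type u) [SmallCategory I] [IsFiltered I] (D : I ⥤ Sh J),
      Function.Injective (colimit.post D (coyoneda.obj (op X))))
    (hs : ∀ (I : Type u) [SmallCategory I] [IsFiltered I] (D : I ⥤ Sh J) (t : X ⟶ colimit D),
      ∃ (i : I) (s : X ⟶ D.obj i), s ≫ colimit.ι D i = t) : IsFP X := by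
  intro I _ _ D
  refine ⟨hqc I D, fun t => ?_⟩
  obtain ⟨i, s, hs⟩ := hs I D t
  exact ⟨colimit.ι (D ⋙ coyoneda.obj (op X)) i s, (post_apply D X i s).trans hs⟩

/-- A retract of a finitely presentable object is finitely presentable. -/
theorem isFP_of_retract {X Q : Sh J} (i : X ⟶ Q) (p : Q ⟶ X) (e : i ≫ p = 𝟙 X) (h : IsFP Q) : IsFP X := by
  have hQC : IsQC Q := isQC_of_post_injective fun I _ _ D => (h I D).1
  haveI : IsSplitEpi p := IsSplitEpi.mk' ⟨i, e⟩
  have hXQC : IsQC X :=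
    isQC_of_finite (κ := PUnit.{1}) (fun _ => p) (fun Z a b hab => (cancel_epi p).1 (hab ⟨⟩)) fun _ => hQC
  refine isFP_intro (fun I _ _ D => post_injective_of_isQC hXQC I D) fun I _ _ D t => ?_
  obtain ⟨j, s, hs⟩ := exists_rep_of_fp h D (p ≫ t)
  exact ⟨j, i ≫ s, by rw [Category.assoc, hs, ← Category.assoc, e, Category.id_comp]⟩

/-- A coequalizer of coherent objects is finitely presentable. -/
theorem isFP_coequalizer (hE : HasQCGenerators J) {X₀ X₁ : Sh J} (a b : X₁ ⟶ X₀) (h₀ : IsCoherent X₀)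
    (h₁ : IsQC X₁) : IsFP (coequalizer a b) := by
  have hQC : IsQC (coequalizer a b) := isQC_of_finite (κ := PUnit.{1}) (fun _ => coequalizer.π a b)
    (fun Z u v h => (cancel_epi (coequalizer.π a b)).1 (h ⟨⟩)) fun _ => h₀.1
  refine isFP_intro (fun I _ _ D => post_injective_of_isQC hQC I D) fun I _ _ D t => ?_
  obtain ⟨i, s, hs⟩ := exists_lift_of_coherent hE (colimit.isColimit D) h₀ (coequalizer.π a b ≫ t)
  change s ≫ colimit.ι D i = _ at hs
  obtain ⟨j, φ, hφ⟩ := eq_of_isQC (colimit.isColimit D) h₁ (a ≫ s) (b ≫ s) (by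
    change (a ≫ s) ≫ colimit.ι D i = (b ≫ s) ≫ colimit.ι D i
    rw [Category.assoc, Category.assoc, hs, coequalizer.condition_assoc])
  refine ⟨j, coequalizer.desc (s ≫ D.map φ) (by simpa using hφ), ?_⟩
  rw [← cancel_epi (coequalizer.π a b), coequalizer.π_desc_assoc, Category.assoc, colimit.w, hs]

section Pres

variable {X : Sh J} {ι : Type u} {F : ι → Sh J} (π : ∀ a, F a ⟶ X) {κ : ι × ι → Type u}
  {G : ∀ p, κ p → Sh J} (g : ∀ p c, G p c ⟶ pullback (π p.1) (π p.2))

open scoped Classical in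
/-- The generators used at a stage. -/
noncomputable def genSet (t : Finset (ι ⊕ Σ p, κ p)) : Finset ι :=
  t.toLeft ∪ t.toRight.image (fun b => b.1.1) ∪ t.toRight.image (fun b => b.1.2)

lemma fst_mem {t : Finset (ι ⊕ Σ p, κ p)} (b : t.toRight) : b.1.1.1 ∈ genSet t := by
  classical exact Finset.mem_union_left _ (Finset.mem_union_right _ (Finset.mem_image_of_mem _ b.2))

lemma snd_mem {t : Finset (ι ⊕ Σ p, κ p)} (b : t.toRight) : b.1.1.2 ∈ genSet t := by
  classical exact Finset.mem_union_right _ (Finset.mem_image_of_mem (fun b : Σ p, κ p => b.1.2) b.2)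

lemma genSet_mono {t t' : Finset (ι ⊕ Σ p, κ p)} (h : t ≤ t') : genSet t ⊆ genSet t' := by
  classical
  exact Finset.union_subset_union (Finset.union_subset_union (Finset.toLeft_subset_toLeft h)
    (Finset.image_subset_image (Finset.toRight_subset_toRight h))) (Finset.image_subset_image (Finset.toRight_subset_toRight h))

/-- The first leg of a finite presentation. -/
noncomputable def leg₁ (t : Finset (ι ⊕ Σ p, κ p)) :
    (∐ fun b : t.toRight => G b.1.1 b.1.2) ⟶ ∐ fun a : genSet t => F a :=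
  Sigma.desc fun b => g b.1.1 b.1.2 ≫ pullback.fst _ _ ≫ Sigma.ι (fun a : genSet t => F a) ⟨b.1.1.1, fst_mem b⟩

/-- The second leg of a finite presentation. -/
noncomputable def leg₂ (t : Finset (ι ⊕ Σ p, κ p)) :
    (∐ fun b : t.toRight => G b.1.1 b.1.2) ⟶ ∐ fun a : genSet t => F a :=
  Sigma.desc fun b => g b.1.1 b.1.2 ≫ pullback.snd _ _ ≫ Sigma.ι (fun a : genSet t => F a) ⟨b.1.1.2, snd_mem b⟩

lemma leg_condition {t t' : Finset (ι ⊕ Σ p, κ p)} (h : t ≤ t') :
    leg₁ π g t ≫ Sigma.desc (fun a : genSet t => Sigma.ι (fun a : genSet t' => F a) ⟨a.1, genSet_mono h a.2⟩ ≫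
        coequalizer.π (leg₁ π g t') (leg₂ π g t')) =
    leg₂ π g t ≫ Sigma.desc (fun a : genSet t => Sigma.ι (fun a : genSet t' => F a) ⟨a.1, genSet_mono h a.2⟩ ≫
        coequalizer.π (leg₁ π g t') (leg₂ π g t')) := by
  refine Sigma.hom_ext _ _ fun b => ?_
  have := Sigma.ι (fun b : t'.toRight => G b.1.1 b.1.2) ⟨b.1, Finset.toRight_subset_toRight h b.2⟩ ≫=
    coequalizer.condition (leg₁ π g t') (leg₂ π g t')
  simpa [leg₁, leg₂, Sigma.ι_desc, Sigma.ι_desc_assoc] using this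

/-- The system of finite presentations. -/
noncomputable def presFun : Finset (ι ⊕ Σ p, κ p) ⥤ Sh J where
  obj t := coequalizer (leg₁ π g t) (leg₂ π g t)
  map {t t'} h := coequalizer.desc _ (leg_condition π g (leOfHom h))
  map_id t := by
    apply coequalizer.hom_ext
    refine Sigma.hom_ext _ _ fun a => ?_
    simp [coequalizer.π_desc, Sigma.ι_desc]
  map_comp {t t' t''} f h := by
    apply coequalizer.hom_ext
    refine Sigma.hom_ext _ _ fun a => ?_
    simp [coequalizer.π_desc, coequalizer.π_desc_assoc, Sigma.ι_desc, Sigma.ι_desc_assoc]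

/-- The cocone of the system of finite presentations. -/
noncomputable def presCocone : Cocone (presFun π g) where
  pt := X
  ι.app t := coequalizer.desc (Sigma.desc fun a : genSet t => π a.1) (Sigma.hom_ext _ _ fun b => by
    simp [leg₁, leg₂, Sigma.ι_desc, Sigma.ι_desc_assoc, pullback.condition])
  ι.naturality t t' h := by
    apply coequalizer.hom_ext
    refine Sigma.hom_ext _ _ fun a => ?_
    simp [presFun, coequalizer.π_desc, coequalizer.π_desc_assoc, Sigma.ι_desc, Sigma.ι_desc_assoc]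

/-- An object is the filtered colimit of its finite presentations. -/
theorem pres_isColimit (hπ : EF π) (hg : ∀ p, EF (g p)) : Nonempty (IsColimit (presCocone π g)) := by
  classical
  let e := fun (t : Finset (ι ⊕ Σ p, κ p)) (a : ι) (ha : a ∈ genSet t) =>
    Sigma.ι (fun a : genSet t => F a) ⟨a, ha⟩ ≫ coequalizer.π (leg₁ π g t) (leg₂ π g t)
  have he : ∀ {t t'} (h : t ≤ t') (a : ι) (ha : a ∈ genSet t),
      e t a ha ≫ (presFun π g).map (homOfLE h) = e t' a (genSet_mono h ha) := fun h a ha => by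
    simp [e, presFun, coequalizer.π_desc, Sigma.ι_desc]
  have ha₀ : ∀ a : ι, a ∈ genSet ({Sum.inl a} : Finset (ι ⊕ Σ p, κ p)) := fun a => by simp [genSet]
  have he' : ∀ (s : Cocone (presFun π g)) {t t'} (h : t ≤ t') (a : ι) (ha : a ∈ genSet t),
      e t a ha ≫ s.ι.app t = e t' a (genSet_mono h ha) ≫ s.ι.app t' := fun s t t' h a ha =>
    (congrArg (e t a ha ≫ ·) (s.w (homOfLE h)).symm).trans
      ((Category.assoc _ _ _).symm.trans (congrArg (· ≫ s.ι.app t') (he h a ha)))
  have key : ∀ s : Cocone (presFun π g), ∃ d : X ⟶ s.pt, ∀ a, π a ≫ d = e _ a (ha₀ a) ≫ s.ι.app _ := fun s => by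
    refine hπ.glue _ fun a a' => hg (a, a') _ _ _ fun c => ?_
    let t : Finset (ι ⊕ Σ p, κ p) := {Sum.inl a, Sum.inl a', Sum.inr ⟨(a, a'), c⟩}
    have h₁ : ({Sum.inl a} : Finset (ι ⊕ Σ p, κ p)) ≤ t := by simp [t]
    have h₂ : ({Sum.inl a'} : Finset (ι ⊕ Σ p, κ p)) ≤ t := by simp [t]
    rw [he' s h₁ a, he' s h₂ a']
    have hb : (⟨(a, a'), c⟩ : Σ p, κ p) ∈ t.toRight := by simp [t]
    have := (Sigma.ι (fun b : t.toRight => G b.1.1 b.1.2) ⟨_, hb⟩ ≫=
      coequalizer.condition (leg₁ π g t) (leg₂ π g t)) =≫ s.ι.app t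
    simpa [e, leg₁, leg₂, Sigma.ι_desc, Sigma.ι_desc_assoc] using this
  choose d hd using key
  refine ⟨{ desc := d, fac := fun s t => ?_, uniq := fun s m hm => hπ _ _ _ fun a => ?_ }⟩
  · apply coequalizer.hom_ext
    refine Sigma.hom_ext _ _ fun a => ?_
    have h' : ({Sum.inl a.1} : Finset (ι ⊕ Σ p, κ p)) ≤ t ∪ {Sum.inl a.1} := Finset.subset_union_right
    have h'' : t ≤ t ∪ {Sum.inl a.1} := Finset.subset_union_left
    refine Eq.trans ?_ (Category.assoc _ _ _)
    change _ = e t a.1 a.2 ≫ s.ι.app t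
    rw [he' s h'' a.1 a.2, ← he' s h' a.1 (ha₀ _), ← hd]
    dsimp only [presCocone]
    erw [coequalizer.π_desc_assoc, Sigma.ι_desc_assoc]
  · rw [hd, ← hm]
    dsimp only [e, presCocone]
    erw [Category.assoc, coequalizer.π_desc_assoc, Sigma.ι_desc_assoc]

end Pres

/-- Every object is a filtered colimit of coequalizers of coherent objects. -/
theorem exists_pres (hE : HasCoherentGenerators J) (X : Sh J) :
    ∃ (I : Type u) (_ : SmallCategory I) (_ : IsFiltered I) (D : I ⥤ Sh J),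
      (∀ i, ∃ (X₀ X₁ : Sh J) (a b : X₁ ⟶ X₀), IsCoherent X₀ ∧ IsCoherent X₁ ∧ D.obj i = coequalizer a b) ∧
        Nonempty (X ≅ colimit D) := by
  classical
  obtain ⟨ι, F, π, hF, hπ⟩ := hE X
  choose κ G g hG hg using fun p : ι × ι => hE (pullback (π p.1) (π p.2))
  obtain ⟨hl⟩ := pres_isColimit π g ((epi_desc_iff π).1 hπ) fun p => (epi_desc_iff (g p)).1 (hg p)
  have hq := qcGen_of_coherentGen hE
  exact ⟨_, inferInstance, inferInstance, presFun π g,
    fun t => ⟨_, _, _, _, isCoherent_sigma hq _ fun (a : genSet t) => hF a.1, isCoherent_sigma hq _ fun (b : t.toRight) => hG b.1.1 b.1.2, rfl⟩,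
    ⟨hl.coconePointUniqueUpToIso (colimit.isColimit _)⟩⟩

/-- Finitely presentable objects are retracts of coequalizers of coherent objects. -/
theorem exists_retract_of_isFP (hE : HasCoherentGenerators J) {X : Sh J} (hX : IsFP X) :
    ∃ (X₀ X₁ : Sh J) (a b : X₁ ⟶ X₀) (i : X ⟶ coequalizer a b) (p : coequalizer a b ⟶ X),
      IsCoherent X₀ ∧ IsCoherent X₁ ∧ i ≫ p = 𝟙 X := by
  obtain ⟨I, _, _, D, hD, ⟨e⟩⟩ := exists_pres hE X
  obtain ⟨j, s, hs⟩ := exists_rep_of_fp hX D e.hom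
  obtain ⟨X₀, X₁, a, b, h₀, h₁, hj⟩ := hD j
  exact ⟨X₀, X₁, a, b, s ≫ eqToHom hj, eqToHom hj.symm ≫ colimit.ι D j ≫ e.inv, h₀, h₁, by
    simp [reassoc_of% hs]⟩

/-- In a topos with coherent generators stable coequalizers give coherence of finitely presentable objects. -/
theorem isCoherent_of_isFP (hE : HasCoherentGenerators J)
    (h : ∀ (X₀ X₁ : Sh J) (a b : X₁ ⟶ X₀), IsCoherent X₀ → IsCoherent X₁ → IsCoherent (coequalizer a b))
    {X : Sh J} (hX : IsFP X) : IsCoherent X := by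
  obtain ⟨X₀, X₁, a, b, i, p, h₀, h₁, e⟩ := exists_retract_of_isFP hE hX
  exact isCoherent_of_retract i p e (h _ _ a b h₀ h₁)

/-- A generating family of quasi-compact objects closed under finite colimits and fibre products
contains all coherent objects. -/
theorem mem_of_isCoherent {S : Set (Sh J)} (hqc : ∀ K ∈ S, IsQC K)
    (hiso : ∀ ⦃K L : Sh J⦄, K ∈ S → Nonempty (K ≅ L) → L ∈ S)
    (hgen : IsGenerating S)
    (hcolim : ∀ (K : Type) [SmallCategory K] [FinCategory K] (D : K ⥤ Sh J),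
      (∀ k, D.obj k ∈ S) → colimit D ∈ S) {X : Sh J} (hX : IsCoherent X) : X ∈ S := by
  classical
  have fincov : ∀ {Y : Sh J}, IsQC Y → ∃ (n : ℕ) (P : Fin n → Sh J) (π : ∀ k, P k ⟶ Y), (∀ k, P k ∈ S) ∧ EF π := by
    intro Y hY
    obtain ⟨ι, F, π, hF, hπ⟩ := hgen Y
    obtain ⟨s, hs⟩ := (isQC_iff Y).1 hY ι F π hπ
    exact ⟨s.card, fun k => F (s.equivFin.symm k).1, fun k => π (s.equivFin.symm k).1, fun k => hF _,
      hs.of_factor fun i => ⟨s.equivFin i, eqToHom (by rw [Equiv.symm_apply_apply]), by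
        have : ∀ {i j : s} (h : i = j), eqToHom (congrArg (fun x : s => F x.1) h) ≫ π j.1 = π i.1 := by
          rintro i j rfl; simp
        exact this (Equiv.symm_apply_apply _ _).symm⟩⟩
  obtain ⟨n, F, π, hF, hπ⟩ := fincov hX.1
  have hS₀ : (∐ F) ∈ S := hcolim (Discrete (Fin n)) (Discrete.functor F) fun k => hF k.as
  have hQ : IsQC (pullback (Sigma.desc π) (Sigma.desc π)) :=
    hX.2 _ _ _ _ (isQC_of_finite (Sigma.ι F) (fun _ _ _ e => Sigma.hom_ext _ _ e) fun k => hqc _ (hF k)) (isQC_of_finite (Sigma.ι F) (fun _ _ _ e => Sigma.hom_ext _ _ e) fun k => hqc _ (hF k))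
  obtain ⟨m, G, g, hG, hg⟩ := fincov hQ
  have hS₁ : (∐ G) ∈ S := hcolim (Discrete (Fin m)) (Discrete.functor G) fun k => hG k.as
  let a := Sigma.desc g ≫ pullback.fst (Sigma.desc π) (Sigma.desc π)
  let b := Sigma.desc g ≫ pullback.snd (Sigma.desc π) (Sigma.desc π)
  have hab : coequalizer a b ∈ S := hcolim WalkingParallelPair (parallelPair a b) fun k => by
    cases k <;> assumption
  haveI : Epi (Sigma.desc g) := (epi_desc_iff g).2 hg
  haveI : Epi (Sigma.desc π) := (epi_desc_iff π).2 hπ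
  have hw : EF (fun _ : PUnit.{1} => Sigma.desc π) := fun Z u v e => (cancel_epi (Sigma.desc π)).1 (e ⟨⟩)
  obtain ⟨d, hd⟩ := hw.glue (fun _ => coequalizer.π a b) fun _ _ => by
    rw [← cancel_epi (Sigma.desc g)]
    simpa [a, b] using coequalizer.condition a b
  let c : coequalizer a b ⟶ X := coequalizer.desc (Sigma.desc π) (by simp [a, b, pullback.condition])
  exact hiso hab ⟨⟨c, d, by apply coequalizer.hom_ext; simpa [c, coequalizer.π_desc_assoc] using hd ⟨⟩,
    by rw [← cancel_epi (Sigma.desc π), ← Category.assoc, hd ⟨⟩]; simp [c, coequalizer.π_desc]⟩⟩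

end ToposFinLib
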