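/-
Deligne's completeness theorem: a site with finite limits and finite covering refinements has
enough points.  Points are sequential colimits of ultraproducts of representable functors.
-/
import Mathlib.CategoryTheory.Sites.Point.Conservative
import Mathlib.CategoryTheory.Limits.Constructions.FiniteProductsOfBinaryProducts
import Mathlib.CategoryTheory.Functor.OfSequence
import Mathlib.Order.Filter.Ultrafilter.Basic
import Mathlib.CategoryTheory.Sites.Sieves

set_option autoImplicit false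
set_option linter.style.haveILetI false
set_option linter.deprecated false

universe u

open CategoryTheory Limits Opposite Filter

namespace ToposFinLib.Deligne

variable {C : Type u} [SmallCategory C]

/-- A functor with liftings to products and equalizers has cofiltered elements. -/
lemma isCofiltered_elements [HasFiniteLimits C] {F : C ⥤ Type u} (hne : Nonempty F.Elements)
    (hp : ∀ (A B : C) (a : F.obj A) (b : F.obj B),
      ∃ p : F.obj (A ⨯ B), F.map prod.fst p = a ∧ F.map prod.snd p = b)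
    (he : ∀ (A B : C) (f g : A ⟶ B) (a : F.obj A), F.map f a = F.map g a →
      ∃ e : F.obj (equalizer f g), F.map (equalizer.ι f g) e = a) : IsCofiltered F.Elements where
  cone_objs := by
    rintro ⟨A, a⟩ ⟨B, b⟩
    obtain ⟨p, h₁, h₂⟩ := hp A B a b
    exact ⟨⟨A ⨯ B, p⟩, CategoryOfElements.homMk _ _ prod.fst h₁, CategoryOfElements.homMk _ _ prod.snd h₂, trivial⟩
  cone_maps := by
    rintro ⟨A, a⟩ ⟨B, b⟩ ⟨f, hf⟩ ⟨g, hg⟩
    obtain ⟨e, h⟩ := he A B f g a (hf.trans hg.symm)
    exact ⟨⟨equalizer f g, e⟩, CategoryOfElements.homMk _ _ (equalizer.ι f g) h,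
      CategoryOfElements.ext _ _ _ (equalizer.condition f g)⟩
  nonempty := hne

section Germ

variable {I : Type u} (W : I → C) (φ : Ultrafilter I)

/-- Partial families of morphisms defined almost everywhere. -/
def Pre (A : C) : Type u :=
  {a : ∀ i, Option (W i ⟶ A) // ∀ᶠ i in (φ : Filter I), ∃ f, a i = some f}

instance germSetoid (A : C) : Setoid (Pre W φ A) where
  r a b := ∀ᶠ i in (φ : Filter I), a.1 i = b.1 i
  iseqv := ⟨fun _ => Eventually.of_forall fun _ => rfl, fun h => h.mono fun _ e => e.symm,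
    fun h₁ h₂ => (h₁.and h₂).mono fun _ e => e.1.trans e.2⟩

/-- Ultraproduct of representable functors. -/
def germF : C ⥤ Type u where
  obj A := Quotient (germSetoid W φ A)
  map {A B} g := ↾Quotient.map (fun a => ⟨fun i => (a.1 i).map (· ≫ g), a.2.mono fun i ⟨f, hf⟩ =>
    ⟨f ≫ g, by simp [hf]⟩⟩) (fun a b h => h.mono fun i hi => by simp [hi])
  map_id A := by
    ext x
    induction x using Quotient.inductionOn with
    | h a => exact Quotient.sound (Eventually.of_forall fun i => by cases h : a.1 i <;> simp [h])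
  map_comp f g := by
    ext x
    induction x using Quotient.inductionOn with
    | h a => exact Quotient.sound (Eventually.of_forall fun i => by cases h : a.1 i <;> simp [h])

variable {W φ}

/-- The germ of a family. -/
def germ {A : C} (a : ∀ i, Option (W i ⟶ A)) (h : ∀ᶠ i in (φ : Filter I), ∃ f, a i = some f) :
    (germF W φ).obj A :=
  Quotient.mk _ ⟨a, h⟩

lemma germ_surj {A : C} (x : (germF W φ).obj A) : ∃ a h, germ a h = x := by
  induction x using Quotient.inductionOn with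
  | h a => exact ⟨a.1, a.2, rfl⟩

lemma germ_eq {A : C} {a b : ∀ i, Option (W i ⟶ A)} {ha hb} :
    (germ a ha : (germF W φ).obj A) = germ b hb ↔ ∀ᶠ i in (φ : Filter I), a i = b i :=
  Quotient.eq''

lemma map_germ {A B : C} (g : A ⟶ B) (a : ∀ i, Option (W i ⟶ A)) (h) :
    (germF W φ).map g (germ a h) =
      germ (fun i => (a i).map (· ≫ g)) (h.mono fun _ ⟨f, hf⟩ => ⟨f ≫ g, by simp [hf]⟩) := rfl

lemma isCofiltered_germF [HasFiniteLimits C] (hne : Nonempty (germF W φ).Elements) :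
    IsCofiltered (germF W φ).Elements := by
  classical
  refine isCofiltered_elements hne (fun A B a b => ?_) (fun A B f g a h => ?_)
  · obtain ⟨a, ha, rfl⟩ := germ_surj a
    obtain ⟨b, hb, rfl⟩ := germ_surj b
    refine ⟨germ (fun i => (a i).bind fun f => (b i).map fun g => prod.lift f g)
      ((ha.and hb).mono fun i ⟨⟨f, hf⟩, ⟨g, hg⟩⟩ => ⟨prod.lift f g, by simp [hf, hg]⟩), ?_, ?_⟩
    all_goals
      rw [map_germ]
      exact germ_eq.2 ((ha.and hb).mono fun i ⟨⟨f, hf⟩, ⟨g, hg⟩⟩ => by simp [hf, hg, prod.lift_fst, prod.lift_snd])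
  · obtain ⟨a, ha, rfl⟩ := germ_surj a
    rw [map_germ, map_germ, germ_eq] at h
    have key : ∀ᶠ i in (φ : Filter I), ∃ t : W i ⟶ equalizer f g,
        ((a i).bind fun u => if w : u ≫ f = u ≫ g then some (equalizer.lift u w) else none) = some t ∧
          a i = some (t ≫ equalizer.ι f g) := (ha.and h).mono fun i ⟨⟨u, hu⟩, he⟩ => by
      have w : u ≫ f = u ≫ g := by simpa [hu] using he
      exact ⟨equalizer.lift u w, by simp [hu, w], by simp [hu, equalizer.lift_ι]⟩
    refine ⟨germ _ (key.mono fun i ⟨t, ht, _⟩ => ⟨t, ht⟩), ?_⟩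
    rw [map_germ]
    exact germ_eq.2 (key.mono fun i ⟨t, ht, ht'⟩ => (congrArg (Option.map (· ≫ equalizer.ι f g)) ht).trans ht'.symm)

end Germ

variable (J : GrothendieckTopology C)

/-- The element stays out of every cover contained in the sieve. -/
def Bad {X : C} (S : Sieve X) (F : C ⥤ Type u) (x : F.obj X) : Prop :=
  ∀ (U : C) (u : F.obj U) (h : U ⟶ X), F.map h u = x → S.pullback h ∉ J U

/-- Finite refinements of covering sieves. -/
def FinCov : Prop :=
  ∀ (U : C) (S : Sieve U), S ∈ J U →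
    ∃ (n : ℕ) (V : Fin n → C) (g : ∀ k, V k ⟶ U), (∀ k, S (g k)) ∧ Sieve.ofArrows V g ∈ J U

variable {J}

lemma exists_bad_refinement {X : C} (S : Sieve X) {P : Type u} {Y : P → C} {n : P → ℕ}
    {Z : ∀ q, Fin (n q) → C} {g : ∀ q k, Z q k ⟶ Y q} (hg : ∀ q, Sieve.ofArrows (Z q) (g q) ∈ J (Y q))
    (G : Finset P) {V : C} (c : V ⟶ X) (hc : S.pullback c ∉ J V) (b : ∀ q ∈ G, V ⟶ Y q) :
    ∃ (W : C) (w : W ⟶ V), S.pullback (w ≫ c) ∉ J W ∧
      ∀ q (hq : q ∈ G), ∃ k a, a ≫ g q k = w ≫ b q hq := by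
  classical
  induction G using Finset.induction with
  | empty => exact ⟨V, 𝟙 V, by simpa using hc, by simp⟩
  | insert q G hq ih =>
    obtain ⟨W, w, hw, hG⟩ := ih fun p hp => b p (Finset.mem_insert_of_mem hp)
    obtain ⟨W', v, hv, hv'⟩ : ∃ (W' : C) (v : W' ⟶ W),
        (Sieve.ofArrows (Z q) (g q)).pullback (w ≫ b q (Finset.mem_insert_self q G)) v ∧
          S.pullback (v ≫ w ≫ c) ∉ J W' := by
      by_contra! h
      refine hw (J.transitive (J.pullback_stable (w ≫ b q (Finset.mem_insert_self q G)) (hg q)) _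
        fun W' v hv => ?_)
      rw [← Sieve.pullback_comp]
      exact h W' v hv
    refine ⟨W', v ≫ w, by simpa using hv', fun p hp => ?_⟩
    rcases Finset.mem_insert.1 hp with rfl | hp'
    · obtain ⟨k, a, ha⟩ := (Sieve.mem_ofArrows_iff _ _ _).1 hv
      exact ⟨k, a, by rw [← ha, Category.assoc]⟩
    · obtain ⟨k, a, ha⟩ := hG p hp'
      exact ⟨k, v ≫ a, by simp [ha]⟩

/-- The saturation step. -/
theorem exists_step [HasFiniteLimits C] (hJ : FinCov J) {X : C} (S : Sieve X) (F : C ⥤ Type u)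
    [IsCofiltered F.Elements] (x : F.obj X) (hx : Bad J S F x) :
    ∃ (F' : C ⥤ Type u) (η : F ⟶ F'), IsCofiltered F'.Elements ∧ Bad J S F' (η.app X x) ∧
      ∀ (Y : C) (R : Sieve Y), R ∈ J Y → ∀ y : F.obj Y,
        ∃ (Z : C) (g : Z ⟶ Y), R g ∧ ∃ z : F'.obj Z, F'.map g z = η.app Y y := by
  classical
  let P := Σ Y : C, {R : Sieve Y // R ∈ J Y} × F.obj Y
  let Tok := F.Elements ⊕ (Σ p : F.Elements, Σ q : F.Elements, (p ⟶ q)) ⊕ P
  let x₀ : F.Elements := ⟨X, x⟩
  choose n Z g hgR hg using fun q : P => hJ q.1 q.2.1.1 q.2.1.2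
  let ends : Tok → Finset F.Elements := fun t => match t with
    | .inl e => {e}
    | .inr (.inl f) => {f.1, f.2.1}
    | .inr (.inr q) => {⟨q.1, q.2.2⟩}
  let O : Finset Tok → Finset F.Elements := fun i => insert x₀ (i.biUnion ends)
  have hO : ∀ (i : Finset Tok) t, t ∈ i → ∀ e ∈ ends t, e ∈ O i := fun i t ht e he =>
    Finset.mem_insert_of_mem (Finset.mem_biUnion.2 ⟨t, ht, he⟩)
  have stage : ∀ i : Finset Tok, ∃ (W : C) (T : ∀ e : F.Elements, e ∈ O i → (W ⟶ e.1)),
      S.pullback (T x₀ (Finset.mem_insert_self _ _)) ∉ J W ∧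
      (∀ (p q : F.Elements) (f : p ⟶ q) (hp : p ∈ O i) (hq : q ∈ O i),
        (.inr (.inl ⟨p, q, f⟩) : Tok) ∈ i → T p hp ≫ f.val = T q hq) ∧
      ∀ (q : P) (hq : (⟨q.1, q.2.2⟩ : F.Elements) ∈ O i), (.inr (.inr q) : Tok) ∈ i →
        ∃ k a, a ≫ g q k = T ⟨q.1, q.2.2⟩ hq := by
    intro i
    let H : Finset (Σ' (p q : F.Elements) (_ : p ∈ O i) (_ : q ∈ O i), p ⟶ q) :=
      i.attach.biUnion fun t => match t with
        | ⟨.inr (.inl f), ht⟩ => {⟨f.1, f.2.1, hO i _ ht _ (by simp [ends]), hO i _ ht _ (by simp [ends]), f.2.2⟩}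
        | _ => ∅
    obtain ⟨V, T, hT⟩ := IsCofiltered.inf_exists (O i) H
    let G : Finset P := i.biUnion fun t => match t with
      | .inr (.inr q) => {q}
      | _ => ∅
    have hG : ∀ q ∈ G, (.inr (.inr q) : Tok) ∈ i := fun q hq => by
      obtain ⟨t, ht, hq⟩ := Finset.mem_biUnion.1 hq
      rcases t with e | f | q' <;> simp at hq
      exact hq ▸ ht
    obtain ⟨W, w, hw, hsol⟩ := exists_bad_refinement S hg G
      (T (Finset.mem_insert_self x₀ _)).val (hx V.1 V.2 _ (T (Finset.mem_insert_self x₀ _)).2)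
      fun q hq => (T (X := ⟨q.1, q.2.2⟩) (hO i _ (hG q hq) _ (by simp [ends]))).val
    refine ⟨W, fun e he => w ≫ (T he).val, hw, fun p q f hp hq hf => ?_, fun q hq hq' => ?_⟩
    · have := hT hp hq (f := f) (Finset.mem_biUnion.2 ⟨⟨_, hf⟩, Finset.mem_attach _ _, by simp⟩)
      exact (Category.assoc _ _ _).trans (congrArg (w ≫ ·) (congrArg Subtype.val this))
    · exact hsol q (Finset.mem_biUnion.2 ⟨_, hq', by simp⟩)
  choose W T hbad hcomm hsol using stage
  let φ : Ultrafilter (Finset Tok) := Ultrafilter.of atTop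
  have ev : ∀ t : Tok, ∀ᶠ i in (φ : Filter (Finset Tok)), t ∈ i := fun t =>
    Ultrafilter.of_le atTop (eventually_atTop.2 ⟨{t}, fun i hi => hi (Finset.mem_singleton_self t)⟩)
  let a : ∀ (e : F.Elements) (i : Finset Tok), Option (W i ⟶ e.1) := fun e i =>
    if h : e ∈ O i then some (T i e h) else none
  have evO : ∀ e, ∀ᶠ i in (φ : Filter (Finset Tok)), e ∈ O i := fun e =>
    (ev (.inl e)).mono fun i hi => hO i _ hi e (by simp [ends])
  let η : F ⟶ germF W φ :=
    { app := fun A => ↾fun z => germ (a ⟨A, z⟩) ((evO ⟨A, z⟩).mono fun i h => ⟨T i _ h, dif_pos h⟩)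
      naturality := fun A B f => by
        ext z
        refine germ_eq.2 (((evO ⟨A, z⟩).and (evO ⟨B, F.map f z⟩)).and
          (ev (.inr (.inl ⟨⟨A, z⟩, ⟨B, F.map f z⟩, f, rfl⟩))) |>.mono fun i ⟨⟨h₁, h₂⟩, h₃⟩ => ?_)
        have h := hcomm i ⟨A, z⟩ ⟨B, F.map f z⟩ ⟨f, rfl⟩ h₁ h₂ h₃
        exact ((dif_pos h₂).trans (congrArg some h.symm)).trans
          (congrArg (Option.map (· ≫ f)) (dif_pos h₁)).symm }
  refine ⟨germF W φ, η, isCofiltered_germF ⟨⟨X, η.app X x⟩⟩, ?_, fun Y R hR y => ?_⟩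
  · intro U u h hu hS
    obtain ⟨u, hu', rfl⟩ := germ_surj u
    have := germ_eq.1 hu
    obtain ⟨i, ⟨⟨f, hf⟩, hi⟩, hxi⟩ := ((hu'.and this).and (evO x₀)).exists
    have h0 : a x₀ i = some (T i x₀ hxi) := dif_pos hxi
    change (u i).map (· ≫ h) = a x₀ i at hi
    rw [h0, hf, Option.map_some, Option.some.injEq] at hi
    refine hbad i ?_
    rw [← hi, Sieve.pullback_comp]
    exact J.pullback_stable f hS
  · let q : P := ⟨Y, ⟨R, hR⟩, y⟩
    have h := ((ev (.inr (.inr q))).and (evO ⟨Y, y⟩)).mono fun i ⟨h₁, h₂⟩ =>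
      (show ∃ k : Fin (n q), ∃ b : W i ⟶ Z q k, some (b ≫ g q k) = a ⟨Y, y⟩ i by
        obtain ⟨k, b, hb⟩ := hsol i q h₂ h₁
        exact ⟨k, b, (congrArg some hb).trans (Eq.symm (dif_pos h₂))⟩)
    obtain ⟨k, hk⟩ : ∃ k : Fin (n q), ∀ᶠ i in (φ : Filter (Finset Tok)),
        ∃ b : W i ⟶ Z q k, some (b ≫ g q k) = a ⟨Y, y⟩ i := by
      by_contra! hh
      obtain ⟨i, ⟨k, b, hk⟩, hi⟩ := (h.and (eventually_all.2 hh)).exists
      exact hi k b hk
    refine ⟨Z q k, g q k, hgR q k, germ (fun i => if hb : ∃ b : W i ⟶ Z q k,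
      some (b ≫ g q k) = a ⟨Y, y⟩ i then some hb.choose else none) (hk.mono fun i hb => ⟨_, dif_pos hb⟩), ?_⟩
    refine germ_eq.2 (hk.mono fun i hb => ?_)
    exact (congrArg (Option.map (· ≫ g q k)) (dif_pos hb)).trans hb.choose_spec

/-- A stage of the construction. -/
structure Stage (J : GrothendieckTopology C) {X : C} (S : Sieve X) : Type (u + 1) where
  F : C ⥤ Type u
  cof : IsCofiltered F.Elements
  x : F.obj X
  bad : Bad J S F x

/-- The point avoiding a non-covering sieve. -/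
theorem exists_point [HasFiniteLimits C] (hJ : FinCov J) {X : C} (S : Sieve X) (hS : S ∉ J X) :
    ∃ (Φ : GrothendieckTopology.Point.{u} J) (x : Φ.fiber.obj X),
      ∀ (Y : C) (g : Y ⟶ X), S g → ∀ y : Φ.fiber.obj Y, Φ.fiber.map g y ≠ x := by
  have stp : ∀ s : Stage J S, ∃ (t : Stage J S) (η : s.F ⟶ t.F), η.app X s.x = t.x ∧
      ∀ (Y : C) (R : Sieve Y), R ∈ J Y → ∀ y : s.F.obj Y,
        ∃ (Z : C) (g : Z ⟶ Y), R g ∧ ∃ z : t.F.obj Z, t.F.map g z = η.app Y y := fun s => by
    haveI := s.cof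
    obtain ⟨F', η, h₁, h₂, h₃⟩ := exists_step hJ S s.F s.x s.bad
    exact ⟨⟨F', h₁, _, h₂⟩, η, rfl, h₃⟩
  choose next η hη hsol using stp
  have base : Bad J S (coyoneda.obj (op X)) (𝟙 X) := fun U u h e hh => hS (by
    have := J.pullback_stable u hh
    rw [← Sieve.pullback_comp] at this
    change u ≫ h = 𝟙 X at e
    rwa [e, Sieve.pullback_id] at this)
  have cof₀ : IsCofiltered (coyoneda.obj (op X)).Elements :=
    isCofiltered_elements ⟨⟨X, 𝟙 X⟩⟩ (fun A B a b => ⟨prod.lift a b, prod.lift_fst a b, prod.lift_snd a b⟩)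
      (fun A B f g a h => ⟨equalizer.lift a h, equalizer.lift_ι a h⟩)
  let st : ℕ → Stage J S := fun m => Nat.rec ⟨_, cof₀, _, base⟩ (fun _ s => next s) m
  let D : ℕ ⥤ (C ⥤ Type u) := Functor.ofSequence (X := fun m => (st m).F) fun m => η (st m)
  have hx : ∀ {l m : ℕ} (h : l ≤ m), (D.map (homOfLE h)).app X (st l).x = (st m).x := by
    intro l m h
    induction m, h using Nat.le_induction with
    | base => rw [Subsingleton.elim (homOfLE _) (𝟙 l), D.map_id]; rfl
    | succ m h ih =>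
      rw [← homOfLE_comp h (Nat.le_add_right m 1), D.map_comp, Functor.ofSequence_map_homOfLE_succ]
      exact (congrArg ((η (st m)).app X) ih).trans (hη (st m))
  let L := colimit D
  let ι : ∀ m, (st m).F ⟶ L := fun m => colimit.ι D m
  have hc : ∀ A : C, IsColimit (((evaluation C (Type u)).obj A).mapCocone (colimit.cocone D)) := fun A =>
    isColimitOfPreserves _ (colimit.isColimit D)
  have surj : ∀ (A : C) (z : L.obj A), ∃ (m : ℕ) (z' : (st m).F.obj A), (ι m).app A z' = z := fun A z =>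
    Types.jointly_surjective_of_isColimit (hc A) z
  have push : ∀ (A : C) {l m : ℕ} (h : l ≤ m) (z : (st l).F.obj A),
      (ι m).app A ((D.map (homOfLE h)).app A z) = (ι l).app A z := fun A l m h z =>
    ConcreteCategory.congr_hom (NatTrans.congr_app (colimit.w D (homOfLE h)) A) z
  have eqv : ∀ (A : C) (l : ℕ) (z z' : (st l).F.obj A), (ι l).app A z = (ι l).app A z' →
      ∃ (m : ℕ) (h : l ≤ m), (D.map (homOfLE h)).app A z = (D.map (homOfLE h)).app A z' := fun A l z z' e => by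
    obtain ⟨m, f, hf⟩ := (Types.FilteredColimit.isColimit_eq_iff' (hc A) z z').1 e
    exact ⟨m, leOfHom f, hf⟩
  have cof : IsCofiltered L.Elements := by
    refine isCofiltered_elements ⟨⟨X, (ι 0).app X (st 0).x⟩⟩ (fun A B a b => ?_) (fun A B f g a e => ?_)
    · obtain ⟨l, a, rfl⟩ := surj A a
      obtain ⟨m, b, rfl⟩ := surj B b
      rw [← push A (le_max_left l m) a, ← push B (le_max_right l m) b]
      haveI := (st (max l m)).cof
      obtain ⟨⟨V, v⟩, ⟨p, hp⟩, ⟨q, hq⟩, -⟩ := IsCofilteredOrEmpty.cone_objs (C := (st (max l m)).F.Elements)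
        ⟨A, (D.map (homOfLE (le_max_left l m))).app A a⟩ ⟨B, (D.map (homOfLE (le_max_right l m))).app B b⟩
      refine ⟨(ι _).app _ ((st (max l m)).F.map (prod.lift p q) v), ?_, ?_⟩
      · rw [← NatTrans.naturality_apply (ι _) prod.fst, ← Functor.map_comp_apply, prod.lift_fst, hp]
      · rw [← NatTrans.naturality_apply (ι _) prod.snd, ← Functor.map_comp_apply, prod.lift_snd, hq]
    · obtain ⟨l, a, rfl⟩ := surj A a
      rw [← NatTrans.naturality_apply (ι l), ← NatTrans.naturality_apply (ι l)] at e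
      obtain ⟨m, h, hm⟩ := eqv B l _ _ e
      haveI := (st m).cof
      rw [← push A h a]
      obtain ⟨⟨V, v⟩, ⟨p, hp⟩, hpq⟩ := IsCofilteredOrEmpty.cone_maps (C := (st m).F.Elements)
        (X := ⟨A, (D.map (homOfLE h)).app A a⟩) (Y := ⟨B, (D.map (homOfLE h)).app B ((st l).F.map f a)⟩)
        (CategoryOfElements.homMk _ _ f (NatTrans.naturality_apply (D.map (homOfLE h)) f a).symm)
        (CategoryOfElements.homMk _ _ g
          ((NatTrans.naturality_apply (D.map (homOfLE h)) g a).symm.trans hm.symm))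
      refine ⟨(ι m).app _ ((st m).F.map (equalizer.lift p (congrArg Subtype.val hpq)) v), ?_⟩
      refine (NatTrans.naturality_apply (ι m) (equalizer.ι f g) _).symm.trans (congrArg ((ι m).app A) ?_)
      refine (ConcreteCategory.congr_hom ((st m).F.map_comp _ _).symm v).trans ?_
      exact (congrArg (fun t => (st m).F.map t v) (equalizer.lift_ι p _)).trans hp
  let Φ : GrothendieckTopology.Point.{u} J :=
    { fiber := L
      isCofiltered := cof
      initiallySmall := initiallySmall_of_essentiallySmall _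
      jointly_surjective := fun {Y} R hR y => by
        obtain ⟨m, y, rfl⟩ := surj Y y
        obtain ⟨Z, g, hg, z, hz⟩ := hsol (st m) Y R hR y
        refine ⟨Z, g, hg, (ι (m + 1)).app Z z, ?_⟩
        have h2 := push Y (Nat.le_add_right m 1) y
        rw [Functor.ofSequence_map_homOfLE_succ] at h2
        rw [← NatTrans.naturality_apply (ι (m + 1)), ← h2]
        exact congrArg ((ι (m + 1)).app Y) hz }
  refine ⟨Φ, (ι 0).app X (st 0).x, fun Y g hg y e => ?_⟩
  obtain ⟨l, y, rfl⟩ := surj Y y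
  change L.map g ((ι l).app Y y) = _ at e
  rw [← NatTrans.naturality_apply (ι l), ← push X (Nat.zero_le l) (st 0).x, hx] at e
  obtain ⟨m, h, hm⟩ := eqv X l _ _ e
  rw [hx] at hm
  refine (st m).bad Y _ g ((NatTrans.naturality_apply (D.map (homOfLE h)) g y).symm.trans hm) ?_
  rw [Sieve.pullback_eq_top_of_mem _ hg]
  exact J.top_mem Y

theorem hasEnoughPoints [HasFiniteLimits C] (hJ : FinCov J) :
    GrothendieckTopology.HasEnoughPoints.{u} J := by
  classical
  let K := Σ X : C, {S : Sieve X // S ∉ J X}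
  choose Φ x hx using fun k : K => exists_point hJ k.2.1 k.2.2
  refine ⟨ObjectProperty.ofObj Φ, inferInstance, ?_⟩
  refine ObjectProperty.IsConservativeFamilyOfPoints.mk' fun X S h => ?_
  by_contra hS
  obtain ⟨Y, g, hg, y, hy⟩ := h (ObjectProperty.FullSubcategory.mk (Φ ⟨X, S, hS⟩) (ObjectProperty.ofObj_apply Φ ⟨X, S, hS⟩)) (x ⟨X, S, hS⟩)
  exact hx ⟨X, S, hS⟩ Y g hg y hy

end ToposFinLib.Deligne
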